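import Cfsg.Agent.Lib.Linear.ClassWeight

/-!
# Conjugate self-reciprocal polynomials

`tl σ P` has as roots the conjugates of the inverses of the roots of `P`; its fixed points are counted, and their
constant terms can be scaled by any element of norm one.
-/

set_option autoImplicit false

universe u

namespace Cfsg.Lib.Linear.ClassU

open Polynomial

variable {F : Type u} [Field F]

/-- The monic conjugate reciprocal polynomial. -/
noncomputable def tl (σ : F →+* F) (P : F[X]) : F[X] := C (σ (P.coeff 0))⁻¹ * (P.map σ).reverse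

variable {σ : F →+* F}

theorem tl_one : tl σ (1 : F[X]) = 1 := by
  simp [tl, reverse]

theorem tl_mul (P Q : F[X]) : tl σ (P * Q) = tl σ P * tl σ Q := by
  rw [tl, tl, tl, mul_coeff_zero, map_mul, Polynomial.map_mul, reverse_mul_of_domain, mul_inv, map_mul C]
  ring

theorem tl_pow (P : F[X]) (k : ℕ) : tl σ (P ^ k) = tl σ P ^ k := by
  induction k with
  | zero => rw [pow_zero, pow_zero, tl_one]
  | succ k ih => rw [pow_succ, pow_succ, tl_mul, ih]

theorem natTrailingDegree_map {P : F[X]} (h0 : P.coeff 0 ≠ 0) : (P.map σ).natTrailingDegree = 0 :=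
  natTrailingDegree_eq_zero.2 (Or.inr (by rw [coeff_map]; exact (map_ne_zero σ).2 h0))

theorem natDegree_tl {P : F[X]} (h0 : P.coeff 0 ≠ 0) : (tl σ P).natDegree = P.natDegree := by
  rw [tl, natDegree_C_mul (inv_ne_zero ((map_ne_zero σ).2 h0)), reverse_natDegree, natTrailingDegree_map h0,
    natDegree_map, Nat.sub_zero]

theorem coeff_tl {P : F[X]} {i : ℕ} (hi : i ≤ P.natDegree) :
    (tl σ P).coeff i = (σ (P.coeff 0))⁻¹ * σ (P.coeff (P.natDegree - i)) := by
  rw [tl, coeff_C_mul, coeff_reverse, natDegree_map, revAt_le hi, coeff_map]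

theorem tl_monic {P : F[X]} (h0 : P.coeff 0 ≠ 0) : (tl σ P).Monic := by
  rw [Monic, leadingCoeff, natDegree_tl h0, coeff_tl le_rfl, Nat.sub_self,
    inv_mul_cancel₀ ((map_ne_zero σ).2 h0)]

theorem tl_coeff_zero {P : F[X]} (hP : P.Monic) : (tl σ P).coeff 0 = (σ (P.coeff 0))⁻¹ := by
  rw [coeff_tl (Nat.zero_le _), Nat.sub_zero, hP.coeff_natDegree, map_one, mul_one]

theorem tl_coeff_zero_ne {P : F[X]} (hP : P.Monic) (h0 : P.coeff 0 ≠ 0) : (tl σ P).coeff 0 ≠ 0 := by
  rw [tl_coeff_zero hP]; exact inv_ne_zero ((map_ne_zero σ).2 h0)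

theorem tl_tl (hσσ : ∀ x, σ (σ x) = x) {P : F[X]} (hP : P.Monic) (h0 : P.coeff 0 ≠ 0) : tl σ (tl σ P) = P := by
  ext i
  rcases le_or_gt i P.natDegree with hi | hi
  · rw [coeff_tl (by rw [natDegree_tl h0]; exact hi), natDegree_tl h0, tl_coeff_zero hP,
      coeff_tl (Nat.sub_le _ _), Nat.sub_sub_self hi, map_inv₀, hσσ, inv_inv, map_mul, map_inv₀, hσσ, hσσ,
      mul_inv_cancel_left₀ h0]
  · rw [coeff_eq_zero_of_natDegree_lt hi,
      coeff_eq_zero_of_natDegree_lt (by rw [natDegree_tl (tl_coeff_zero_ne hP h0), natDegree_tl h0]; exact hi)]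

theorem tl_irreducible (hσσ : ∀ x, σ (σ x) = x) {P : F[X]} (hP : P.Monic) (h0 : P.coeff 0 ≠ 0)
    (hi : Irreducible P) : Irreducible (tl σ P) := by
  refine (tl_monic h0).irreducible_iff_natDegree.2 ⟨fun h1 => ?_, fun f g hf hg hfg => ?_⟩
  · refine hi.not_isUnit ?_
    rw [← tl_tl hσσ hP h0, h1, tl_one]
    exact isUnit_one
  · have hf0 : f.coeff 0 ≠ 0 := fun h => tl_coeff_zero_ne hP h0 (σ := σ) (by rw [← hfg, mul_coeff_zero, h, zero_mul])
    have hg0 : g.coeff 0 ≠ 0 := fun h => tl_coeff_zero_ne hP h0 (σ := σ) (by rw [← hfg, mul_coeff_zero, h, mul_zero])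
    have h2 : P = tl σ f * tl σ g := by rw [← tl_mul, hfg, tl_tl hσσ hP h0]
    rcases (hP.irreducible_iff_natDegree.1 hi).2 _ _ (tl_monic hf0) (tl_monic hg0) h2.symm with h | h
    · exact Or.inl (by rwa [natDegree_tl hf0] at h)
    · exact Or.inr (by rwa [natDegree_tl hg0] at h)

/-- Conjugate self-reciprocal. -/
def IsSR (σ : F →+* F) (P : F[X]) : Prop := P.Monic ∧ P.coeff 0 ≠ 0 ∧ tl σ P = P

theorem isSR_one : IsSR σ (1 : F[X]) := ⟨monic_one, by simp, tl_one⟩

theorem IsSR.mul {P Q : F[X]} (hP : IsSR σ P) (hQ : IsSR σ Q) : IsSR σ (P * Q) :=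
  ⟨hP.1.mul hQ.1, by rw [mul_coeff_zero]; exact mul_ne_zero hP.2.1 hQ.2.1, by rw [tl_mul, hP.2.2, hQ.2.2]⟩

theorem IsSR.coeff_eq {P : F[X]} (h : IsSR σ P) (hσσ : ∀ x, σ (σ x) = x) {i : ℕ} (hi : i ≤ P.natDegree) :
    P.coeff (P.natDegree - i) = P.coeff 0 * σ (P.coeff i) := by
  have h1 := congrArg (fun f : F[X] => σ (f.coeff i)) h.2.2
  simp only [coeff_tl hi, map_mul, map_inv₀, hσσ] at h1
  rw [← h1, mul_inv_cancel_left₀ h.2.1]

theorem IsSR.norm {P : F[X]} (h : IsSR σ P) (hσσ : ∀ x, σ (σ x) = x) : P.coeff 0 * σ (P.coeff 0) = 1 := by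
  rw [← h.coeff_eq hσσ (Nat.zero_le _), Nat.sub_zero, h.1.coeff_natDegree]

theorem isSR_of_coeff (hσσ : ∀ x, σ (σ x) = x) {P : F[X]} (hP : P.Monic) (h0 : P.coeff 0 ≠ 0)
    (h : ∀ i ≤ P.natDegree, P.coeff (P.natDegree - i) = P.coeff 0 * σ (P.coeff i)) : IsSR σ P := by
  refine ⟨hP, h0, Polynomial.ext fun i => ?_⟩
  rcases le_or_gt i P.natDegree with hi | hi
  · rw [coeff_tl hi, h i hi, map_mul, hσσ, inv_mul_cancel_left₀ ((map_ne_zero σ).2 h0)]
  · rw [coeff_eq_zero_of_natDegree_lt hi, coeff_eq_zero_of_natDegree_lt (by rw [natDegree_tl h0]; exact hi)]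

theorem IsSR.of_mul {P Q : F[X]} (hP : IsSR σ P) (h : IsSR σ (P * Q)) : IsSR σ Q := by
  have h0 : P.coeff 0 * Q.coeff 0 ≠ 0 := by rw [← mul_coeff_zero]; exact h.2.1
  refine ⟨hP.1.of_mul_monic_left h.1, right_ne_zero_of_mul h0, ?_⟩
  have h2 := h.2.2
  rw [tl_mul, hP.2.2] at h2
  exact mul_left_cancel₀ hP.1.ne_zero h2

/-- An irreducible self-reciprocal polynomial, or the product of two that are exchanged. -/
def IsAtom (σ : F →+* F) (Q : F[X]) : Prop :=
  IsSR σ Q ∧ ∃ s : Finset F[X], Q = ∏ p ∈ s, p ∧ s.Nonempty ∧ ∀ p ∈ s, p.Monic ∧ Irreducible p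

theorem exists_atom (hσσ : ∀ x, σ (σ x) = x) {P : F[X]} (hP : IsSR σ P) (hd : P.natDegree ≠ 0) :
    ∃ Q R, IsAtom σ Q ∧ IsSR σ R ∧ P = Q * R := by
  classical
  obtain ⟨p, hpm, hpi, hpd⟩ := P.exists_monic_irreducible_factor fun hu => hd (natDegree_eq_zero_of_isUnit hu)
  obtain ⟨R, hR⟩ := hpd
  have hp0 : p.coeff 0 ≠ 0 := fun h => hP.2.1 (by rw [hR, mul_coeff_zero, h, zero_mul])
  by_cases hfix : tl σ p = p
  · have hpS : IsSR σ p := ⟨hpm, hp0, hfix⟩
    exact ⟨p, R, ⟨hpS, {p}, by simp, by simp, by simp [hpm, hpi]⟩, hpS.of_mul (hR ▸ hP), hR⟩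
  · have hti := tl_irreducible hσσ hpm hp0 hpi
    have htm := tl_monic (σ := σ) hp0
    have hdvd : tl σ p ∣ p * R := ⟨tl σ R, by rw [← tl_mul, ← hR, hP.2.2]⟩
    have hdR : tl σ p ∣ R := (hti.prime.dvd_or_dvd hdvd).resolve_left fun h =>
      hfix (eq_of_monic_of_associated htm hpm (hti.associated_of_dvd hpi h))
    obtain ⟨R', hR'⟩ := hdR
    have hQ : IsSR σ (p * tl σ p) := ⟨hpm.mul htm, by
      rw [mul_coeff_zero]; exact mul_ne_zero hp0 (tl_coeff_zero_ne hpm hp0), by
      rw [tl_mul, tl_tl hσσ hpm hp0, mul_comm]⟩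
    refine ⟨p * tl σ p, R', ⟨hQ, {p, tl σ p}, (Finset.prod_pair (f := fun x : F[X] => x) (Ne.symm hfix)).symm, by simp, ?_⟩,
      hQ.of_mul (by rw [mul_assoc, ← hR', ← hR]; exact hP), by rw [mul_assoc, ← hR', ← hR]⟩
    intro x hx
    rcases Finset.mem_insert.1 hx with rfl | hx
    · exact ⟨hpm, hpi⟩
    · rw [Finset.mem_singleton.1 hx]; exact ⟨htm, hti⟩

section Count

variable [Fintype F] {q : ℕ}

theorem card_norm_one_le (hσ : ∀ x, σ x = x ^ q) : Nat.card {x : F // x * σ x = 1} ≤ q + 1 := by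
  classical
  rw [Nat.card_eq_fintype_card, Fintype.card_subtype]
  refine (card_le_degree_of_subset_roots (p := (X ^ (q + 1) - C 1 : F[X])) fun x hx => ?_).trans
    (by rw [natDegree_X_pow_sub_C])
  rw [mem_roots (X_pow_sub_C_ne_zero (Nat.succ_pos q) 1)]
  have h := (Finset.mem_filter.1 hx).2
  rw [hσ] at h
  simp [pow_succ', h]

theorem card_fixed_le (hσ : ∀ x, σ x = x ^ q) (hq : 2 ≤ q) {c : F} (hc : c ≠ 0) :
    Nat.card {x : F // c * σ x = x} ≤ q := by
  classical
  have hd : (C c * X ^ q - X : F[X]).natDegree = q := by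
    rw [natDegree_sub_eq_left_of_natDegree_lt] <;> rw [natDegree_C_mul_X_pow q c hc]
    rw [natDegree_X]; omega
  rw [Nat.card_eq_fintype_card, Fintype.card_subtype]
  refine (card_le_degree_of_subset_roots (p := (C c * X ^ q - X : F[X])) fun x hx => ?_).trans hd.le
  rw [mem_roots (fun h => by rw [h] at hd; simp at hd; omega)]
  have h := (Finset.mem_filter.1 hx).2
  rw [hσ] at h
  simp [h]

/-- The number of self-reciprocal polynomials. -/
def au (q : ℕ) : ℕ → ℕ
  | 0 => 1
  | m + 1 => (q + 1) * q ^ m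

/-- Self-reciprocal polynomials of degree `m`. -/
abbrev SPol (σ : F →+* F) (m : ℕ) : Type u := {g : F[X] // IsSR σ g ∧ g.natDegree = m}

theorem finite_card_spol (hσσ : ∀ x, σ (σ x) = x) (hσ : ∀ x, σ x = x ^ q) (hF : Fintype.card F = q ^ 2)
    (m : ℕ) : Finite (SPol σ m) ∧ Nat.card (SPol σ m) ≤ au q m := by
  classical
  have hq : 2 ≤ q := by
    have := Fintype.one_lt_card (α := F)
    by_contra h
    have : q ^ 2 ≤ 1 ^ 2 := Nat.pow_le_pow_left (by omega) 2
    omega
  rcases Nat.eq_zero_or_pos m with rfl | hm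
  · have : Subsingleton (SPol σ 0) := ⟨fun g h => Subtype.ext
      ((g.2.1.1.natDegree_eq_zero.1 g.2.2).trans (h.2.1.1.natDegree_eq_zero.1 h.2.2).symm)⟩
    exact ⟨Finite.of_subsingleton, Finite.card_le_one_iff_subsingleton.2 this⟩
  set k := (m - 1) / 2 with hk
  let M : {x : F // x * σ x = 1} → Type u := fun c =>
    {x : F // if Even m then c.1 * σ x = x else x = 0}
  let φ : SPol σ m → Σ c : {x : F // x * σ x = 1}, (Fin k → F) × M c := fun g =>
    ⟨⟨g.1.coeff 0, g.2.1.norm hσσ⟩, fun i => g.1.coeff (i.val + 1),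
      ⟨if Even m then g.1.coeff (m / 2) else 0, by
        by_cases he : Even m
        · simp only [if_pos he]
          have h1 := g.2.1.coeff_eq hσσ (i := m / 2) (by rw [g.2.2]; omega)
          rw [g.2.2, show m - m / 2 = m / 2 by obtain ⟨r, hr⟩ := he; omega] at h1
          exact h1.symm
        · simp only [if_neg he]⟩⟩
  have hinj : Function.Injective φ := by
    intro g g' h
    have h0 : g.1.coeff 0 = g'.1.coeff 0 :=
      congrArg (fun z : Σ c : {x : F // x * σ x = 1}, (Fin k → F) × M c => z.1.1) h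
    have hl : (fun i : Fin k => g.1.coeff (i.val + 1)) = fun i => g'.1.coeff (i.val + 1) :=
      congrArg (fun z : Σ c : {x : F // x * σ x = 1}, (Fin k → F) × M c => z.2.1) h
    have hmid : (if Even m then g.1.coeff (m / 2) else 0) = if Even m then g'.1.coeff (m / 2) else 0 :=
      congrArg (fun z : Σ c : {x : F // x * σ x = 1}, (Fin k → F) × M c => z.2.2.1) h
    have low : ∀ i, 2 * i ≤ m → g.1.coeff i = g'.1.coeff i := fun i hi => by
      rcases Nat.eq_zero_or_pos i with rfl | hi0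
      · exact h0
      by_cases hk' : i ≤ k
      · have := congrFun hl ⟨i - 1, by omega⟩
        simpa [Nat.sub_add_cancel hi0] using this
      · have he : Even m := ⟨m / 2, by omega⟩
        rw [if_pos he, if_pos he] at hmid
        rwa [show i = m / 2 by omega]
    refine Subtype.ext (Polynomial.ext fun i => ?_)
    rcases le_or_gt i m with hi | hi
    · by_cases h2 : 2 * i ≤ m
      · exact low i h2
      · have e1 := g.2.1.coeff_eq hσσ (i := m - i) (by rw [g.2.2]; omega)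
        have e2 := g'.2.1.coeff_eq hσσ (i := m - i) (by rw [g'.2.2]; omega)
        rw [g.2.2, Nat.sub_sub_self hi] at e1
        rw [g'.2.2, Nat.sub_sub_self hi] at e2
        rw [e1, e2, h0, low (m - i) (by omega)]
    · rw [coeff_eq_zero_of_natDegree_lt (by rw [g.2.2]; exact hi),
        coeff_eq_zero_of_natDegree_lt (by rw [g'.2.2]; exact hi)]
  refine ⟨Finite.of_injective φ hinj, (Nat.card_le_card_of_injective φ hinj).trans ?_⟩
  obtain ⟨r, rfl⟩ : ∃ r, m = r + 1 := ⟨m - 1, by omega⟩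
  have hB : ∀ c : {x : F // x * σ x = 1}, Nat.card ((Fin k → F) × M c) ≤ q ^ r := fun c => by
    rw [Nat.card_prod, Nat.card_fun, Nat.card_fin, Nat.card_eq_fintype_card (α := F), hF, ← pow_mul]
    by_cases he : Even (r + 1)
    · obtain ⟨s, hs⟩ := he
      have hM : Nat.card (M c) ≤ q := by
        refine le_trans (le_of_eq (Nat.card_congr (Equiv.subtypeEquivRight fun x => ?_))) (card_fixed_le hσ hq
          (left_ne_zero_of_mul_eq_one c.2))
        rw [if_pos ⟨s, hs⟩]
      refine (Nat.mul_le_mul_left _ hM).trans (le_of_eq ?_)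
      rw [← pow_succ]
      congr 1
      omega
    · have hM : Nat.card (M c) ≤ 1 := by
        refine Finite.card_le_one_iff_subsingleton.2 ⟨fun x y => Subtype.ext ?_⟩
        have hx := x.2; have hy := y.2
        rw [if_neg he] at hx hy
        rw [hx, hy]
      refine (Nat.mul_le_mul_left _ hM).trans (le_of_eq ?_)
      rw [mul_one]
      congr 1
      obtain ⟨s, hs⟩ := Nat.not_even_iff_odd.1 he
      omega
  rw [Nat.card_sigma]
  calc ∑ c : {x : F // x * σ x = 1}, Nat.card ((Fin k → F) × M c)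
      ≤ ∑ _c : {x : F // x * σ x = 1}, q ^ r := Finset.sum_le_sum fun c _ => hB c
    _ ≤ (q + 1) * q ^ r := by
      rw [Finset.sum_const, smul_eq_mul, Finset.card_univ, ← Nat.card_eq_fintype_card]
      exact Nat.mul_le_mul_right _ (card_norm_one_le hσ)

end Count

section Scale

/-- Multipliers scaling the constant term of a self-reciprocal polynomial of degree `m`. -/
def mlt (w ω : F) (m i : ℕ) : F :=
  if i = 0 then w else if i = m then 1 else if 2 * i < m then 1 else if 2 * i = m then ω else w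

/-- The scaled polynomial. -/
noncomputable def scl (w ω : F) (P : F[X]) : F[X] :=
  ∑ i ∈ Finset.range (P.natDegree + 1), monomial i (mlt w ω P.natDegree i * P.coeff i)

variable {w ω : F} {P : F[X]}

theorem coeff_scl (i : ℕ) : (scl w ω P).coeff i = if i ≤ P.natDegree then mlt w ω P.natDegree i * P.coeff i else 0 := by
  simp [scl, finsetSum_coeff, coeff_monomial, Nat.lt_succ_iff]

theorem natDegree_scl (hP : P.Monic) (hd : P.natDegree ≠ 0) : (scl w ω P).natDegree = P.natDegree := by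
  refine natDegree_eq_of_le_of_coeff_ne_zero (natDegree_le_iff_coeff_eq_zero.2 fun i hi => ?_) ?_
  · rw [coeff_scl, if_neg (by omega)]
  · rw [coeff_scl, if_pos le_rfl, hP.coeff_natDegree, mlt, if_neg hd, if_pos rfl, mul_one]
    exact one_ne_zero

theorem coeff_zero_scl : (scl w ω P).coeff 0 = w * P.coeff 0 := by
  rw [coeff_scl, if_pos (Nat.zero_le _), mlt, if_pos rfl]

theorem monic_scl (hP : P.Monic) (hd : P.natDegree ≠ 0) : (scl w ω P).Monic := by
  rw [Monic, leadingCoeff, natDegree_scl hP hd, coeff_scl, if_pos le_rfl, hP.coeff_natDegree, mlt, if_neg hd,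
    if_pos rfl, mul_one]

theorem scl_isSR (hσσ : ∀ x, σ (σ x) = x) (hw : w * σ w = 1) (hω : ω = w * σ ω) (h : IsSR σ P)
    (hd : P.natDegree ≠ 0) : IsSR σ (scl w ω P) := by
  refine isSR_of_coeff hσσ (monic_scl h.1 hd) (by rw [coeff_zero_scl]; exact mul_ne_zero (left_ne_zero_of_mul_eq_one hw) h.2.1)
    fun i hi => ?_
  rw [natDegree_scl h.1 hd] at hi ⊢
  rw [coeff_zero_scl, coeff_scl, if_pos (Nat.sub_le _ _), coeff_scl, if_pos hi, h.coeff_eq hσσ hi, map_mul]
  have key : mlt w ω P.natDegree (P.natDegree - i) = w * σ (mlt w ω P.natDegree i) := by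
    unfold mlt
    split_ifs <;> first | omega | simp [hw] | exact hω
  rw [key]
  ring

theorem scl_injective {Q : F[X]} (hw : w ≠ 0) (hω : ω ≠ 0) (hdeg : P.natDegree = Q.natDegree)
    (h : scl w ω P = scl w ω Q) : P = Q := by
  ext i
  rcases le_or_gt i P.natDegree with hi | hi
  · have h1 := congrArg (fun f : F[X] => f.coeff i) h
    simp only [coeff_scl, if_pos hi, if_pos (hdeg ▸ hi), ← hdeg] at h1
    refine mul_left_cancel₀ ?_ h1
    unfold mlt
    split_ifs <;> first | exact hw | exact hω | exact one_ne_zero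
  · rw [coeff_eq_zero_of_natDegree_lt hi, coeff_eq_zero_of_natDegree_lt (hdeg ▸ hi)]

theorem exists_omega (hσσ : ∀ x, σ (σ x) = x) (hne : σ ≠ RingHom.id F) (hw : w * σ w = 1) :
    ∃ ω : F, ω ≠ 0 ∧ ω = w * σ ω := by
  by_cases h : (1 : F) + w = 0
  · obtain ⟨x, hx⟩ : ∃ x, σ x ≠ x := by
      by_contra hall
      push Not at hall
      exact hne (RingHom.ext hall)
    refine ⟨x - σ x, sub_ne_zero.2 (Ne.symm hx), ?_⟩
    rw [map_sub, hσσ, show w = -1 by linear_combination h]
    ring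
  · exact ⟨1 + w, h, by rw [map_add, map_one]; linear_combination -hw⟩

end Scale

end Cfsg.Lib.Linear.ClassU
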