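import Cfsg.Agent.Lib.Linear.ClassU.Form
import Cfsg.Agent.Lib.Linear.CentralizerDet
import Cfsg.Agent.S2587

/-!
# Determinants on centralisers in the unitary group

If a unitary matrix has a block of size `e` then every `e`th power of a norm one element is the determinant of
a unitary matrix commuting with it.
-/

set_option autoImplicit false

universe u

namespace Cfsg.Lib.Linear.ClassU

open Polynomial Matrix Cfsg.Lib
open Cfsg.Lib.Linear.AbsorbPSU (ad ad_mul ad_one ad_aeval det_ad rank_ad ad_ad)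

variable {F : Type u} [Field F] {n : ℕ}

theorem det_aeval {A : Matrix (Fin n) (Fin n) F} {ι : Type u} [Fintype ι] {f : ι → F[X]}
    (hf : ∀ i, (f i).Monic) (hA : CanonicalForm.HasForm A f) (h : F[X]) :
    (aeval A h).det = ∏ k, Algebra.norm F (AdjoinRoot.mk (f k) h) := by
  classical
  obtain ⟨Ψ, hΨ⟩ := hA
  let pb := fun k => AdjoinRoot.powerBasis' (hf k)
  let b := (Pi.basis fun k => (pb k).basis).map Ψ.symm
  have hb : LinearMap.toMatrix b b (Matrix.toLin' (aeval A h)) =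
      Matrix.blockDiagonal' fun k => Algebra.leftMulMatrix (pb k).basis (AdjoinRoot.mk (f k) h) := by
    ext ⟨k', a⟩ ⟨k, c⟩
    rw [LinearMap.toMatrix_apply, Module.Basis.map_repr, LinearEquiv.trans_apply, LinearEquiv.symm_symm,
      Pi.basis_repr, Matrix.toLin'_apply, CanonicalForm.HasForm.aeval hΨ, Module.Basis.map_apply,
      LinearEquiv.apply_symm_apply, Pi.basis_apply]
    by_cases hk : k' = k
    · subst hk
      rw [Pi.single_eq_same, Matrix.blockDiagonal'_apply_eq]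
      exact (Algebra.leftMulMatrix_eq_repr_mul (pb k').basis _ a c).symm
    · rw [Pi.single_eq_of_ne hk, mul_zero, map_zero, Finsupp.zero_apply, Matrix.blockDiagonal'_apply_ne _ _ _ hk]
  rw [← LinearMap.det_toLin', ← LinearMap.det_toMatrix b, hb, CanonicalForm.det_blockDiag]
  exact Finset.prod_congr rfl fun k _ => (Algebra.norm_eq_matrix_det _ _).symm

theorem commute_aeval {R : Type*} [Ring R] [Algebra F R] {a b : R} (h : Commute a b) (P : F[X]) :
    Commute (aeval a P) b := by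
  induction P using Polynomial.induction_on' with
  | add P Q hP hQ => rw [map_add]; exact hP.add_left hQ
  | monomial k c => rw [aeval_monomial]; exact (Algebra.commute_algebraMap_left c b).mul_left (h.pow_left k)

section BlockUnits

variable {m k : ℕ}

/-- The block diagonal homomorphism. -/
noncomputable def bdM (η : Fin m ⊕ Fin k ≃ Fin n) :
    Matrix (Fin m) (Fin m) F × Matrix (Fin k) (Fin k) F →* Matrix (Fin n) (Fin n) F where
  toFun x := Matrix.reindex η η (Matrix.fromBlocks x.1 0 0 x.2)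
  map_one' := by simp
  map_mul' x y := by
    simp only [Prod.fst_mul, Prod.snd_mul, Matrix.reindex_apply]
    rw [Matrix.submatrix_mul_equiv, Matrix.fromBlocks_multiply]
    simp

/-- Block diagonal invertible matrices. -/
noncomputable def bdU (η : Fin m ⊕ Fin k ≃ Fin n) : GL (Fin m) F × GL (Fin k) F →* GL (Fin n) F :=
  (Units.map (bdM η)).comp MulEquiv.prodUnits.symm.toMonoidHom

theorem bdU_val (η : Fin m ⊕ Fin k ≃ Fin n) (x : GL (Fin m) F × GL (Fin k) F) :
    (bdU η x).1 = Matrix.reindex η η (Matrix.fromBlocks x.1.1 0 0 x.2.1) := rfl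

theorem det_bdU (η : Fin m ⊕ Fin k ≃ Fin n) (x : GL (Fin m) F × GL (Fin k) F) :
    GeneralLinearGroup.det (bdU η x) = GeneralLinearGroup.det x.1 * GeneralLinearGroup.det x.2 := by
  refine Units.ext ?_
  show (bdU η x).1.det = x.1.1.det * x.2.1.det
  rw [bdU_val, Matrix.det_reindex_self, Matrix.det_fromBlocks_zero₂₁]

variable [Fintype F] {q : ℕ} {σ : F →+* F}

theorem bdU_mem (hσ : ∀ x, σ x = x ^ q) (hF : Fintype.card F = q ^ 2) (η : Fin m ⊕ Fin k ≃ Fin n)
    {x : GL (Fin m) F} (hx : x ∈ Cfsg.GU m F q) {y : GL (Fin k) F} (hy : y ∈ Cfsg.GU k F q) :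
    bdU η (x, y) ∈ Cfsg.GU n F q := by
  rw [mem_iff_ad hσ hF] at hx hy ⊢
  have h1 : ad σ (bdU η (x, y)).1 = bdM η (ad σ x.1, ad σ y.1) := by
    show ad σ (Matrix.reindex η η (Matrix.fromBlocks x.1 0 0 y.1)) = Matrix.reindex η η _
    simp [ad, ← Matrix.submatrix_map, Matrix.fromBlocks_map, Matrix.transpose_submatrix,
      Matrix.fromBlocks_transpose, Matrix.map_zero]
  rw [h1, show (bdU η (x, y)).1 = bdM η (x.1, y.1) from rfl, ← map_mul, Prod.mk_mul_mk, hx, hy]
  exact map_one _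

end BlockUnits

variable [Fintype F] {q : ℕ} {σ : F →+* F}

/-- The determinants of the unitary matrices commuting with `g`. -/
noncomputable def detU (q : ℕ) (g : GL (Fin n) F) : Subgroup Fˣ :=
  (Subgroup.centralizer {g} ⊓ Cfsg.GU n F q).map GeneralLinearGroup.det

theorem det_norm (hσ : ∀ x, σ x = x ^ q) (hF : Fintype.card F = q ^ 2) {g : GL (Fin n) F}
    (hg : g ∈ Cfsg.GU n F q) : ((GeneralLinearGroup.det g : Fˣ) : F) * σ (GeneralLinearGroup.det g : Fˣ) = 1 := by
  have h := congrArg Matrix.det ((mem_iff_ad hσ hF).1 hg)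
  rw [Matrix.det_mul, det_ad, Matrix.det_one] at h
  rw [mul_comm]
  exact h

omit [Fintype F] in
theorem detU_conj_le {g x : GL (Fin n) F} (hx : x ∈ Cfsg.GU n F q) : detU q g ≤ detU q (x * g * x⁻¹) := by
  rintro _ ⟨y, ⟨hy, hyU⟩, rfl⟩
  refine ⟨x * y * x⁻¹, ⟨Subgroup.mem_centralizer_singleton_iff.2 ?_,
    (Cfsg.GU n F q).mul_mem ((Cfsg.GU n F q).mul_mem hx hyU) ((Cfsg.GU n F q).inv_mem hx)⟩, ?_⟩
  · have h : y * g = g * y := Subgroup.mem_centralizer_singleton_iff.1 hy
    calc x * y * x⁻¹ * (x * g * x⁻¹) = x * (y * g) * x⁻¹ := by group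
      _ = x * (g * y) * x⁻¹ := by rw [h]
      _ = x * g * x⁻¹ * (x * y * x⁻¹) := by group
  · rw [map_mul, map_mul, map_inv, mul_comm, ← mul_assoc, inv_mul_cancel, one_mul]

theorem mem_detU_cyclic (hσσ : ∀ x, σ (σ x) = x) (hne : σ ≠ RingHom.id F) (hσ : ∀ x, σ x = x ^ q)
    (hF : Fintype.card F = q ^ 2) {g : GL (Fin n) F} (hg : g ∈ Cfsg.GU n F q) {ι : Type u} [Fintype ι]
    {p : ι → F[X]} {e : ι → ℕ} (hp : ∀ i, (p i).Monic ∧ Irreducible (p i)) (hinj : Function.Injective p)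
    (hform : CanonicalForm.HasForm g.1 fun i => p i ^ e i) (i : ι) {v : Fˣ} (hv : (v : F) * σ v = 1) :
    v ^ e i ∈ detU q g := by
  classical
  obtain ⟨b, hb0, hb⟩ := exists_omega hσσ hne hv
  haveI : Fact (Irreducible (p i)) := ⟨(hp i).2⟩
  haveI : Module.Finite F (AdjoinRoot (p i)) := (hp i).1.finite_adjoinRoot
  haveI : Finite (AdjoinRoot (p i)) := Module.finite_of_finite F
  obtain ⟨z, hz⟩ := FiniteField.norm_surjective F (AdjoinRoot (p i)) b
  obtain ⟨h₀, rfl⟩ := AdjoinRoot.mk_surjective z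
  have hpow : Algebra.norm F (AdjoinRoot.mk (p i ^ e i) h₀) = b ^ e i := by
    refine (algebraMap F (AlgebraicClosure F)).injective ?_
    rw [CentralizerDet.norm_mk ((hp i).1.pow _), CentralizerDet.res_pow (hp i).1,
      ← CentralizerDet.norm_mk (hp i).1, hz, map_pow]
  set c := ∏ k ∈ Finset.univ.erase i, p k ^ e k with hc
  obtain ⟨a, d, had⟩ : IsCoprime (p i ^ e i) c := IsCoprime.prod_right fun k hk => by
    refine ((hp i).2.coprime_iff_not_dvd.2 fun hd => (Finset.mem_erase.1 hk).1 (hinj ?_)).pow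
    exact (eq_of_monic_of_associated (hp i).1 (hp k).1 ((hp i).2.associated_of_dvd (hp k).2 hd)).symm
  set h := 1 + (h₀ - 1) * d * c with hh
  have hmk : AdjoinRoot.mk (p i ^ e i) h = AdjoinRoot.mk (p i ^ e i) h₀ :=
    AdjoinRoot.mk_eq_mk.2 ⟨-(h₀ - 1) * a, by rw [hh]; linear_combination (h₀ - 1) * had⟩
  have hmk' : ∀ k, k ≠ i → AdjoinRoot.mk (p k ^ e k) h = 1 := fun k hk => by
    rw [← map_one (AdjoinRoot.mk (p k ^ e k)), AdjoinRoot.mk_eq_mk, hh, add_sub_cancel_left]
    exact Dvd.dvd.mul_left (Finset.dvd_prod_of_mem _ (Finset.mem_erase.2 ⟨hk, Finset.mem_univ k⟩)) _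
  have hdet : (aeval g.1 h).det = b ^ e i := by
    rw [det_aeval (fun k => (hp k).1.pow _) hform, Finset.prod_eq_single i (fun k _ hk => by rw [hmk' k hk, map_one])
      (fun hi => absurd (Finset.mem_univ i) hi), hmk, hpow]
  set X : GL (Fin n) F := GeneralLinearGroup.mkOfDetNeZero (aeval g.1 h) (by rw [hdet]; exact pow_ne_zero _ hb0)
  have hgX : Commute g X := Units.ext (commute_aeval (Commute.refl g.1) h).symm
  have hadX : (adU σ X).1 = aeval (g⁻¹).1 (h.map σ) := by
    rw [← congrArg Units.val (adU_of_mem hσ hF hg)]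
    exact ad_aeval σ g.1 h
  have hgi : Commute (g⁻¹).1 g.1 := by
    show (g⁻¹).1 * g.1 = g.1 * (g⁻¹).1
    rw [Units.inv_mul, Units.mul_inv]
  have hgA : Commute g (adU σ X) := Units.ext (by
    show g.1 * (adU σ X).1 = (adU σ X).1 * g.1
    rw [hadX]
    exact (commute_aeval hgi _).symm)
  have hXA : Commute X (adU σ X) := Units.ext (by
    show aeval g.1 h * (adU σ X).1 = (adU σ X).1 * aeval g.1 h
    rw [hadX]
    exact commute_aeval (commute_aeval hgi _).symm h)
  have had_mul : ∀ x y : GL (Fin n) F, adU σ (x * y) = adU σ y * adU σ x := fun x y => Units.ext (ad_mul σ x.1 y.1)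
  have had_ad : ∀ x : GL (Fin n) F, adU σ (adU σ x) = x := fun x => Units.ext (ad_ad σ hσσ x.1)
  have had_inv : ∀ x : GL (Fin n) F, adU σ x⁻¹ = (adU σ x)⁻¹ := fun x => Units.ext rfl
  refine ⟨X * (adU σ X)⁻¹, ⟨Subgroup.mem_centralizer_singleton_iff.2 ?_, ?_⟩, ?_⟩
  · exact ((hgX.mul_right hgA.inv_right).symm).eq
  · show _ ∈ Cfsg.GU n F q
    rw [mem_iff_ad hσ hF]
    have h1 : adU σ (X * (adU σ X)⁻¹) * (X * (adU σ X)⁻¹) = 1 := by
      rw [had_mul, had_inv, had_ad, show X⁻¹ * adU σ X * (X * (adU σ X)⁻¹) =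
        X⁻¹ * (adU σ X * X) * (adU σ X)⁻¹ by group, ← hXA.eq]
      group
    exact congrArg Units.val h1
  · rw [map_mul, map_inv, mul_inv_eq_iff_eq_mul]
    refine Units.ext ?_
    rw [Units.val_mul, Units.val_pow_eq_pow_val]
    show (aeval g.1 h).det = (v : F) ^ e i * (ad σ (aeval g.1 h)).det
    rw [det_ad, hdet, map_pow, ← mul_pow, ← hb]

theorem mem_detU_of_form (hσσ : ∀ x, σ (σ x) = x) (hne : σ ≠ RingHom.id F) (hσ : ∀ x, σ x = x ^ q)
    (hF : Fintype.card F = q ^ 2) {g : GL (Fin n) F} (hg : g ∈ Cfsg.GU n F q) {ι : Type u} [Fintype ι]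
    {p : ι → F[X]} {e : ι → ℕ} (hp : ∀ i, (p i).Monic ∧ Irreducible (p i)) (he : ∀ i, 1 ≤ e i)
    (hform : CanonicalForm.HasForm g.1 fun i => p i ^ e i) (i : ι) {v : Fˣ} (hv : (v : F) * σ v = 1) :
    v ^ e i ∈ detU q g := by
  classical
  have h0 := coeff_zero_ne_of_form g (fun i => (hp i).1) he hform
  have hsym := sym_of_mem hσσ hσ hF hg hp he hform
  obtain ⟨i', hi'p, hi'e, hinj'⟩ : ∃ i', p i' = tl σ (p i) ∧ e i' = e i ∧ (tl σ (p i) = p i → i' = i) := by
    by_cases h : tl σ (p i) = p i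
    · exact ⟨i, h.symm, rfl, fun _ => rfl⟩
    · obtain ⟨i', -, hi'⟩ := Multiset.mem_map.1 (hsym ▸ Multiset.mem_map.2 ⟨i, Finset.mem_univ i, rfl⟩ :
        (tl σ (p i), e i) ∈ (Finset.univ : Finset ι).val.map fun i => (p i, e i))
      rw [Prod.mk.injEq] at hi'
      exact ⟨i', hi'.1, hi'.2, fun h' => absurd h' h⟩
  let P : ι → Prop := fun k => k = i ∨ k = i'
  have hmap : ∀ (Q : ι → Prop) [DecidablePred Q] (f : ι → F[X] × ℕ),
      ((Finset.univ : Finset {x // Q x}).val.map fun x => f x.1) = (Finset.univ.filter Q).val.map f := by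
    intro Q _ f
    rw [← Finset.subtype_map Q, Finset.map_val, Multiset.map_map, Finset.subtype_univ]
    rfl
  have hsym1 : Sym σ (fun x : {x // P x} => p x.1) (fun x => e x.1) := by
    rw [Sym, hmap P (fun k => (tl σ (p k), e k)), hmap P (fun k => (p k, e k))]
    have hS : Finset.univ.filter P = ({i, i'} : Finset ι) := by ext k; simp [P]
    rw [hS]
    by_cases hii : i' = i
    · rw [hii] at hi'p ⊢
      simp [← hi'p]
    · rw [Finset.insert_val_of_notMem (by simpa using Ne.symm hii), Finset.singleton_val, Multiset.map_cons,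
        Multiset.map_cons, Multiset.map_singleton, Multiset.map_singleton, hi'p, tl_tl hσσ (hp i).1 (h0 i), hi'e]
      exact Multiset.pair_comm _ _
  have hsym2 : Sym σ (fun x : {x // ¬ P x} => p x.1) (fun x => e x.1) := by
    have h1 := hsym1
    rw [Sym, hmap P (fun k => (tl σ (p k), e k)), hmap P (fun k => (p k, e k))] at h1
    rw [Sym, hmap (fun k => ¬ P k) (fun k => (tl σ (p k), e k)), hmap (fun k => ¬ P k) (fun k => (p k, e k))]
    have hsplit : ∀ f : ι → F[X] × ℕ, (Finset.univ.filter P).val.map f +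
        (Finset.univ.filter fun k => ¬ P k).val.map f = (Finset.univ : Finset ι).val.map f := fun f => by
      rw [← Multiset.map_add, Finset.filter_val, Finset.filter_val, Multiset.filter_add_not]
    have h2 := (hsplit fun k => (tl σ (p k), e k)).trans (hsym.trans (hsplit fun k => (p k, e k)).symm)
    rw [h1] at h2
    exact add_left_cancel h2
  set n₁ := ∑ x : {x // P x}, (p x.1 ^ e x.1).natDegree
  set n₂ := ∑ x : {x // ¬ P x}, (p x.1 ^ e x.1).natDegree
  have hn : n₁ + n₂ = n := by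
    rw [← hform.sum_natDegree fun k => (hp k).1.pow _]
    exact Fintype.sum_subtype_add_sum_subtype P fun k => (p k ^ e k).natDegree
  obtain ⟨B₁, hB₁, hf₁⟩ := exists_gu_form hσσ hσ hF (n := n₁) (fun x : {x // P x} => hp x.1) (fun x => he x.1)
    (fun x => h0 x.1) rfl hsym1
  obtain ⟨B₂, hB₂, hf₂⟩ := exists_gu_form hσσ hσ hF (n := n₂) (fun x : {x // ¬ P x} => hp x.1) (fun x => he x.1)
    (fun x => h0 x.1) rfl hsym2
  let η : Fin n₁ ⊕ Fin n₂ ≃ Fin n := finSumFinEquiv.trans (finCongr hn)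
  have hform' : CanonicalForm.HasForm (bdU η (B₁, B₂)).1 fun k => p k ^ e k :=
    hasForm_block η P (f := fun k => p k ^ e k) hf₁ hf₂
  have hconj : IsConj (bdU η (B₁, B₂)) g :=
    Cfsg.Agent.Lib.Linear.SemisimpleClasses.isConj_units_of_isConj _ _ (CanonicalForm.isConj_of_hasForm hform' hform)
  obtain ⟨x, hx⟩ := isConj_iff.1 ((Cfsg.Agent.S2587.result hF ⟨_, bdU_mem hσ hF η hB₁ hB₂⟩ ⟨g, hg⟩).2 hconj)
  have hinj : Function.Injective (fun x : {x // P x} => p x.1) := by
    have haux : p i' = p i → i' = i := fun h => hinj' (hi'p.symm.trans h)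
    rintro ⟨a, rfl | rfl⟩ ⟨b, rfl | rfl⟩ hab
    · rfl
    · exact Subtype.ext (haux hab.symm).symm
    · exact Subtype.ext (haux hab)
    · rfl
  obtain ⟨y, ⟨hy, hyU⟩, hdety⟩ := mem_detU_cyclic hσσ hne hσ hF hB₁ (fun x : {x // P x} => hp x.1) hinj hf₁
    ⟨i, Or.inl rfl⟩ hv
  have hmem : v ^ e i ∈ detU q (bdU η (B₁, B₂)) := by
    refine ⟨bdU η (y, 1), ⟨Subgroup.mem_centralizer_singleton_iff.2 ?_, bdU_mem hσ hF η hyU (one_mem _)⟩, ?_⟩
    · have : y * B₁ = B₁ * y := Subgroup.mem_centralizer_singleton_iff.1 hy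
      rw [← map_mul, ← map_mul, Prod.mk_mul_mk, Prod.mk_mul_mk, this, one_mul, mul_one]
    · rw [det_bdU, map_one, mul_one, hdety]
  have hx' : (x : GL (Fin n) F) * bdU η (B₁, B₂) * (x : GL (Fin n) F)⁻¹ = g := congrArg Subtype.val hx
  exact hx' ▸ detU_conj_le x.2 hmem

end Cfsg.Lib.Linear.ClassU
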