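import Cfsg.Agent.Lib.Linear.ClassU.Count
import Cfsg.Agent.Lib.Linear.ClassU.Cent
import Cfsg.Agent.Lib.Linear.ClassNumberSL

/-!
# Conjugacy classes of `SU_n(q)` over a tuple

The classes of `SU_n(q)` inside a class of `GU_n(q)` correspond to cosets of the determinants of the centraliser.
-/

set_option autoImplicit false

universe u

namespace Cfsg.Lib.Linear.ClassU

open Polynomial Matrix Cfsg.Lib Cfsg.Lib.Linear.ClassNumberGL Cfsg.Lib.Linear.ClassWeight

variable {F : Type u} [Field F]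

theorem tl_prod {σ : F →+* F} (s : Multiset F[X]) : tl σ s.prod = (s.map (tl σ)).prod := by
  induction s using Multiset.induction_on with
  | empty => simp [tl_one]
  | cons a s ih => rw [Multiset.prod_cons, tl_mul, ih, Multiset.map_cons, Multiset.prod_cons]

variable [Fintype F] {σ : F →+* F} {q n : ℕ}

theorem isSR_of_mem (D : UD σ q) {g : GL (Fin n) F} (hg : g ∈ Cfsg.GU n F q) {t : Tup F n n}
    (h : IsTupleOf g t) (j : Fin n) : IsSR σ (t.1 j) := by
  classical
  obtain ⟨ι, hι, p, e, hp, he, hform, ht⟩ := h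
  refine ⟨(t.2.1 j).1, (t.2.1 j).2, ?_⟩
  rw [ht, tl_prod, Multiset.map_map]
  have hsym := congrArg (fun m : Multiset (F[X] × ℕ) => (m.filter fun x => x.2 = j.val + 1).map Prod.fst)
    (sym_of_mem D.invol D.pow D.card hg hp (fun i => (he i).1) hform)
  simp only [Multiset.filter_map, Multiset.map_map] at hsym
  exact congrArg Multiset.prod hsym

theorem index_detU_dvd (D : UD σ q) {g : GL (Fin n) F} (hg : g ∈ Cfsg.GU n F q) {t : Tup F n n}
    (h : IsTupleOf g t) : ((detU q g).subgroupOf (mu F q)).index ∣ idxU q t := by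
  classical
  obtain ⟨ι, hι, p, e, hp, he, hform, ht⟩ := h
  refine Nat.dvd_gcd ?_ (Finset.dvd_gcd fun j hj => ?_)
  · rw [← card_mu D]
    exact Subgroup.index_dvd_card _
  · obtain ⟨i, hi⟩ : ∃ i, e i = j.val + 1 := by
      by_contra hne
      apply (Finset.mem_filter.1 hj).2
      rw [ht, Multiset.filter_eq_nil.2 fun i _ hi => hne ⟨i, hi⟩]
      simp
    haveI : IsCyclic (mu F q ⧸ (detU q g).subgroupOf (mu F q)) :=
      isCyclic_of_surjective _ (QuotientGroup.mk'_surjective ((detU q g).subgroupOf (mu F q)))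
    rw [Subgroup.index_eq_card, ← IsCyclic.exponent_eq_card]
    refine Monoid.exponent_dvd_of_forall_pow_eq_one fun y => ?_
    obtain ⟨v, rfl⟩ := QuotientGroup.mk_surjective y
    rw [← QuotientGroup.mk_pow, QuotientGroup.eq_one_iff, ← hi, Subgroup.mem_subgroupOf, SubgroupClass.coe_pow]
    exact mem_detU_of_form D.invol D.ne_id D.pow D.card hg hp (fun i => (he i).1) hform i ((mem_mu D _).1 v.2)

/-- A representative of a class, as an invertible matrix. -/
noncomputable def rep (C : ConjClasses ↥(Cfsg.SU n F q)) : GL (Fin n) F :=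
  SpecialLinearGroup.toGL (C.out : SpecialLinearGroup (Fin n) F)

omit [Fintype F] in
theorem rep_mem (C : ConjClasses ↥(Cfsg.SU n F q)) : rep C ∈ Cfsg.GU n F q := fun u v => C.out.2 u v

/-- The tuple of a class. -/
noncomputable def tupU (C : ConjClasses ↥(Cfsg.SU n F q)) : Tup F n n :=
  (exists_isTupleOf (rep C)).choose

theorem isTupleOf_tupU (C : ConjClasses ↥(Cfsg.SU n F q)) : IsTupleOf (rep C) (tupU C) :=
  (exists_isTupleOf (rep C)).choose_spec

theorem cst_tupU (C : ConjClasses ↥(Cfsg.SU n F q)) : cst (tupU C) = (-1) ^ n := by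
  refine Units.ext ?_
  rw [ClassNumberSL.cst_eq (isTupleOf_tupU C),
    show (rep C).1.det = 1 from (C.out : SpecialLinearGroup (Fin n) F).2, mul_one, Units.val_pow_eq_pow_val,
    Units.val_neg, Units.val_one]

theorem mk_out (C : ConjClasses ↥(Cfsg.SU n F q)) : ConjClasses.mk C.out = C := Quotient.out_eq C

theorem det_mem_mu (D : UD σ q) {g : GL (Fin n) F} (hg : g ∈ Cfsg.GU n F q) :
    GeneralLinearGroup.det g ∈ mu F q :=
  (mem_mu D _).2 (det_norm D.pow D.card hg)

theorem card_fibre_le (D : UD σ q) (t : Tup F n n) :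
    Nat.card {C : ConjClasses ↥(Cfsg.SU n F q) // tupU C = t} ≤ idxU q t := by
  classical
  rcases isEmpty_or_nonempty {C : ConjClasses ↥(Cfsg.SU n F q) // tupU C = t} with h | ⟨⟨C₀, h₀⟩⟩
  · rw [Nat.card_of_isEmpty]; exact Nat.zero_le _
  have hT₀ : IsTupleOf (rep C₀) t := h₀ ▸ isTupleOf_tupU C₀
  have hx : ∀ C : {C : ConjClasses ↥(Cfsg.SU n F q) // tupU C = t},
      ∃ x : ↥(Cfsg.GU n F q), (x : GL (Fin n) F) * rep C₀ * (x : GL (Fin n) F)⁻¹ = rep C.1 := fun C => by
    have hC : IsTupleOf (rep C.1) t := by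
      have := isTupleOf_tupU C.1
      rwa [C.2] at this
    obtain ⟨x, hx⟩ := isConj_iff.1 ((Cfsg.Agent.S2587.result D.card ⟨_, rep_mem C₀⟩ ⟨_, rep_mem C.1⟩).2
      (hT₀.isConj hC))
    exact ⟨x, congrArg Subtype.val hx⟩
  choose x hx using hx
  let d : {C : ConjClasses ↥(Cfsg.SU n F q) // tupU C = t} → mu F q := fun C =>
    ⟨GeneralLinearGroup.det (x C : GL (Fin n) F), det_mem_mu D (x C).2⟩
  refine le_trans (Nat.card_le_card_of_injective
    (fun C => (QuotientGroup.mk (d C) : mu F q ⧸ (detU q (rep C₀)).subgroupOf (mu F q))) fun C C' hCC => ?_)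
    (Nat.le_of_dvd (Nat.gcd_pos_of_pos_left _ (Nat.succ_pos q)) (index_detU_dvd D (rep_mem C₀) hT₀))
  obtain ⟨y, ⟨hy, hyU⟩, hdet⟩ := Subgroup.mem_subgroupOf.1 (QuotientGroup.eq.1 hCC)
  have hy' : y * rep C₀ = rep C₀ * y := Subgroup.mem_centralizer_singleton_iff.1 hy
  simp only [d, Subgroup.coe_mul, InvMemClass.coe_inv] at hdet
  set w : GL (Fin n) F := (x C' : GL (Fin n) F) * ((x C : GL (Fin n) F) * y)⁻¹ with hw
  have hwU : w ∈ Cfsg.GU n F q :=
    (Cfsg.GU n F q).mul_mem (x C').2 ((Cfsg.GU n F q).inv_mem ((Cfsg.GU n F q).mul_mem (x C).2 hyU))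
  have hd : GeneralLinearGroup.det w = 1 := by
    rw [hw, map_mul, map_inv, map_mul, hdet, mul_inv_cancel_left, mul_inv_cancel]
  let zs : SpecialLinearGroup (Fin n) F := ⟨w.1, congrArg Units.val hd⟩
  let z : ↥(Cfsg.SU n F q) := ⟨zs, fun u v => hwU u v⟩
  apply Subtype.ext
  rw [← mk_out C.1, ← mk_out C'.1, ConjClasses.mk_eq_mk_iff_isConj, isConj_iff]
  refine ⟨z, Subtype.ext (SpecialLinearGroup.toGL_injective ?_)⟩
  show SpecialLinearGroup.toGL (zs * (C.1.out : SpecialLinearGroup (Fin n) F) * zs⁻¹) = rep C'.1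
  rw [map_mul, map_mul, map_inv, show SpecialLinearGroup.toGL zs = w from Units.ext rfl, ← hx C',
    show SpecialLinearGroup.toGL (C.1.out : SpecialLinearGroup (Fin n) F) = rep C.1 from rfl, ← hx C, hw]
  calc (x C' : GL (Fin n) F) * ((x C : GL (Fin n) F) * y)⁻¹ *
        ((x C : GL (Fin n) F) * rep C₀ * (x C : GL (Fin n) F)⁻¹) *
        ((x C' : GL (Fin n) F) * ((x C : GL (Fin n) F) * y)⁻¹)⁻¹
      = (x C' : GL (Fin n) F) * y⁻¹ * (rep C₀ * y) * (x C' : GL (Fin n) F)⁻¹ := by group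
    _ = (x C' : GL (Fin n) F) * y⁻¹ * (y * rep C₀) * (x C' : GL (Fin n) F)⁻¹ := by rw [hy']
    _ = _ := by group

theorem card_classes_le_weightU (D : UD σ q) :
    Nat.card (ConjClasses ↥(Cfsg.SU n F q)) ≤ weightU σ q n ((-1 : Fˣ) ^ n) := by
  classical
  rw [weightU]
  refine le_trans (Nat.card_le_card_of_injective
    (β := Σ t : {t // t ∈ (Finset.univ : Finset (Tup F n n)).filter
      (fun t => (∀ j, IsSR σ (t.1 j)) ∧ cst t = (-1 : Fˣ) ^ n)},
      {C : ConjClasses ↥(Cfsg.SU n F q) // tupU C = t.1})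
    (fun C => ⟨⟨tupU C, Finset.mem_filter.2 ⟨Finset.mem_univ _,
      fun j => isSR_of_mem D (rep_mem C) (isTupleOf_tupU C) j, cst_tupU C⟩⟩, C, rfl⟩)
    fun C C' h => congrArg (fun z : Σ t : {t // t ∈ (Finset.univ : Finset (Tup F n n)).filter
      (fun t => (∀ j, IsSR σ (t.1 j)) ∧ cst t = (-1 : Fˣ) ^ n)},
      {C : ConjClasses ↥(Cfsg.SU n F q) // tupU C = t.1} => z.2.1) h) ?_
  rw [Nat.card_sigma, ← Finset.sum_coe_sort (Finset.univ.filter _)]
  exact Finset.sum_le_sum fun t _ => card_fibre_le D t.1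

end Cfsg.Lib.Linear.ClassU
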