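import Cfsg.Agent.Lib.Linear.ClassU.Count

/-!
# Numerical bounds for the weighted counts of self-reciprocal tuples
-/

set_option autoImplicit false

universe u

namespace Cfsg.Lib.Linear.ClassU

open Cfsg.Lib.Linear.ClassNumberGL

/-- The factor by which the bound grows when tuples of length `J + 1` are allowed. -/
def fac (q : ℚ) (J : ℕ) : ℚ := if J = 0 then 1 + q⁻¹ else 1 + (1 + q⁻¹) / (q ^ J - 1)

/-- The constant in the bound for tuples of length `J`. -/
def Cc (q : ℚ) : ℕ → ℚ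
  | 0 => 1
  | J + 1 => Cc q J * fac q J

theorem fac_le {q r : ℚ} (hr : 1 < r) (hq : r ≤ q) (J : ℕ) : 0 ≤ fac q J ∧ fac q J ≤ fac r J := by
  have hq0 : (0 : ℚ) < q := by linarith
  have hinv : q⁻¹ ≤ r⁻¹ := inv_anti₀ (by linarith) hq
  have hq1 : 0 ≤ q⁻¹ := by positivity
  rcases eq_or_ne J 0 with rfl | hJ
  · simp only [fac, if_pos]
    exact ⟨by linarith, by linarith⟩
  · have h1 : 0 < r ^ J - 1 := sub_pos.2 (one_lt_pow₀ hr hJ)
    have h2 : r ^ J ≤ q ^ J := pow_le_pow_left₀ (by linarith) hq J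
    simp only [fac, if_neg hJ]
    refine ⟨?_, ?_⟩
    · have : 0 ≤ (1 + q⁻¹) / (q ^ J - 1) := div_nonneg (by linarith) (by linarith)
      linarith
    · have : (1 + q⁻¹) / (q ^ J - 1) ≤ (1 + r⁻¹) / (r ^ J - 1) :=
        div_le_div₀ (by linarith) (by linarith) h1 (by linarith)
      linarith

theorem Cc_nonneg {q : ℚ} (hq : 1 < q) : ∀ J, 0 ≤ Cc q J
  | 0 => zero_le_one
  | J + 1 => mul_nonneg (Cc_nonneg hq J) (fac_le hq le_rfl J).1

theorem Cc_mono {q r : ℚ} (hr : 1 < r) (hq : r ≤ q) : ∀ J, Cc q J ≤ Cc r J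
  | 0 => le_rfl
  | J + 1 => mul_le_mul (Cc_mono hr hq J) (fac_le hr hq J).2 (fac_le hr hq J).1 (Cc_nonneg hr J)

theorem Cc_two_le (J : ℕ) : Cc 2 J ≤ 9 := by
  have h : ∀ J, 6 ≤ J → Cc 2 J * (1 + 8 / 2 ^ J) ≤ 9 := by
    intro J hJ
    induction J, hJ using Nat.le_induction with
    | base => simp only [Cc, fac]; norm_num
    | succ J hJ ih =>
      refine le_trans ?_ ih
      show Cc 2 J * fac 2 J * _ ≤ _
      rw [mul_assoc]
      refine mul_le_mul_of_nonneg_left ?_ (Cc_nonneg (by norm_num) J)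
      have hy : (64 : ℚ) ≤ 2 ^ J := le_trans (by norm_num) (pow_le_pow_right₀ (by norm_num : (1 : ℚ) ≤ 2) hJ)
      rw [fac, if_neg (by omega), pow_succ]
      generalize (2 : ℚ) ^ J = y at hy ⊢
      have h1 : (0 : ℚ) < y - 1 := by linarith
      field_simp
      nlinarith
  rcases le_or_gt 6 J with hJ | hJ
  · have h1 : 0 ≤ Cc 2 J * (8 / 2 ^ J) := mul_nonneg (Cc_nonneg (by norm_num) J) (by positivity)
    have := h J hJ
    linarith
  · interval_cases J <;> simp only [Cc, fac] <;> norm_num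

theorem Cc_three_le (J : ℕ) : Cc 3 J ≤ 3 := by
  have h : ∀ J, 4 ≤ J → Cc 3 J * (1 + 4 / 3 ^ J) ≤ 3 := by
    intro J hJ
    induction J, hJ using Nat.le_induction with
    | base => simp only [Cc, fac]; norm_num
    | succ J hJ ih =>
      refine le_trans ?_ ih
      show Cc 3 J * fac 3 J * _ ≤ _
      rw [mul_assoc]
      refine mul_le_mul_of_nonneg_left ?_ (Cc_nonneg (by norm_num) J)
      have hy : (81 : ℚ) ≤ 3 ^ J := le_trans (by norm_num) (pow_le_pow_right₀ (by norm_num : (1 : ℚ) ≤ 3) hJ)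
      rw [fac, if_neg (by omega), pow_succ]
      generalize (3 : ℚ) ^ J = y at hy ⊢
      have h1 : (0 : ℚ) < y - 1 := by linarith
      field_simp
      nlinarith
  rcases le_or_gt 4 J with hJ | hJ
  · have h1 : 0 ≤ Cc 3 J * (4 / 3 ^ J) := mul_nonneg (Cc_nonneg (by norm_num) J) (by positivity)
    have := h J hJ
    linarith
  · interval_cases J <;> simp only [Cc, fac] <;> norm_num

theorem Nu_le_Cc {q : ℕ} (hq : 2 ≤ q) : ∀ J n, (Nu q J n : ℚ) ≤ Cc q J * (q : ℚ) ^ n := by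
  have hq1 : (1 : ℚ) < q := by exact_mod_cast hq
  have hq0 : (q : ℚ) ≠ 0 := by positivity
  have hau : ∀ m, 1 ≤ m → (au q m : ℚ) = (1 + (q : ℚ)⁻¹) * (q : ℚ) ^ m := fun m hm => by
    obtain ⟨m, rfl⟩ : ∃ k, m = k + 1 := ⟨m - 1, by omega⟩
    rw [au, pow_succ]
    push_cast
    field_simp
  intro J
  induction J with
  | zero =>
    intro n
    rcases eq_or_ne n 0 with rfl | hn
    · simp [Nu, Cc]
    · simp [Nu, Cc, hn]
  | succ J ih =>
    intro n
    set f : ℕ → ℚ := fun m => if (J + 1) * m ≤ n then (au q m : ℚ) * Nu q J (n - (J + 1) * m) else 0 with hf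
    have hNu : (Nu q (J + 1) n : ℚ) = ∑ m ∈ Finset.range (n + 1), f m := by
      rw [Nu, Nat.cast_sum]
      exact Finset.sum_congr rfl fun m _ => by rw [hf, Nat.cast_ite, Nat.cast_mul, Nat.cast_zero]
    rcases eq_or_ne J 0 with rfl | hJ
    · rw [hNu, Finset.sum_eq_single_of_mem n (Finset.self_mem_range_succ n) fun m hm hne => ?_]
      · simp only [hf, zero_add, one_mul, le_refl, if_true, Nat.sub_self, Nu, Nat.cast_one, mul_one, Cc, fac]
        rcases eq_or_ne n 0 with rfl | hn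
        · simp [au]
        · rw [hau n (by omega)]
      · rw [Finset.mem_range] at hm
        simp [hf, Nu, show ¬n - m = 0 by omega]
    set x : ℚ := ((q : ℚ) ^ J)⁻¹ with hx
    have hqJ : (1 : ℚ) < (q : ℚ) ^ J := one_lt_pow₀ hq1 hJ
    have hx0 : 0 ≤ x := by positivity
    have hx1 : x < 1 := inv_lt_one_of_one_lt₀ hqJ
    have hbound : ∀ m ∈ Finset.Ico 1 (n + 1), f m ≤ Cc q J * (q : ℚ) ^ n * (1 + (q : ℚ)⁻¹) * x ^ m := by
      intro m hm
      rw [Finset.mem_Ico] at hm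
      have hC := Cc_nonneg hq1 J
      simp only [hf]
      split_ifs with h
      · refine (mul_le_mul_of_nonneg_left (ih (n - (J + 1) * m)) (Nat.cast_nonneg _)).trans_eq ?_
        rw [hau m hm.1, hx, inv_pow, ← pow_mul]
        have : (q : ℚ) ^ n = (q : ℚ) ^ (n - (J + 1) * m) * ((q : ℚ) ^ m * (q : ℚ) ^ (J * m)) := by
          rw [← pow_add, ← pow_add]
          congr 1
          rw [add_mul, one_mul] at h ⊢
          omega
        rw [this]
        field_simp
      · positivity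
    rw [hNu, Finset.sum_range_eq_add_Ico _ (Nat.succ_pos n), Cc, fac, if_neg hJ]
    have hgeo : ∑ m ∈ Finset.Ico 1 (n + 1), x ^ m ≤ x ^ 1 / (1 - x) := geom_sum_Ico_le_of_lt_one hx0 hx1
    have hxv : x ^ 1 / (1 - x) = 1 / ((q : ℚ) ^ J - 1) := by
      rw [hx, pow_one]
      have : (q : ℚ) ^ J - 1 ≠ 0 := by linarith
      field_simp
    have hf0 : f 0 ≤ Cc q J * (q : ℚ) ^ n := by
      simpa [hf, au] using ih n
    have hsum : ∑ m ∈ Finset.Ico 1 (n + 1), f m ≤
        Cc q J * (q : ℚ) ^ n * (1 + (q : ℚ)⁻¹) * (1 / ((q : ℚ) ^ J - 1)) := by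
      refine (Finset.sum_le_sum hbound).trans ?_
      rw [← Finset.mul_sum]
      refine mul_le_mul_of_nonneg_left (hgeo.trans_eq hxv) ?_
      have := Cc_nonneg hq1 J
      positivity
    calc f 0 + ∑ m ∈ Finset.Ico 1 (n + 1), f m
        ≤ Cc q J * (q : ℚ) ^ n + Cc q J * (q : ℚ) ^ n * (1 + (q : ℚ)⁻¹) * (1 / ((q : ℚ) ^ J - 1)) :=
          add_le_add hf0 hsum
      _ = _ := by ring

theorem Nu_two_le (J n : ℕ) : Nu 2 J n ≤ 9 * 2 ^ n := by
  have h := (Nu_le_Cc le_rfl J n).trans (mul_le_mul_of_nonneg_right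
    (show Cc ((2 : ℕ) : ℚ) J ≤ 9 by exact_mod_cast Cc_two_le J) (by positivity))
  exact_mod_cast h

theorem Nu_le_three {q : ℕ} (hq : 3 ≤ q) (J n : ℕ) : Nu q J n ≤ 3 * q ^ n := by
  have h := (Nu_le_Cc (by omega) J n).trans (mul_le_mul_of_nonneg_right
    (((Cc_mono (by norm_num) (show (3 : ℚ) ≤ q by exact_mod_cast hq) J).trans (Cc_three_le J))) (by positivity))
  exact_mod_cast h

theorem total_two (n : ℕ) (hn : 1 ≤ n) :
    100 * (Nu 2 n n + ∑ d ∈ (Nat.gcd n (2 + 1)).divisors.erase 1, (d ^ 2 - 1) * Nu 2 (n / d) (n / d)) ≤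
      826 * ((2 + 1) * 2 ^ (n - 1)) := by
  obtain ⟨k, rfl⟩ : ∃ k, n = k + 1 := ⟨n - 1, by omega⟩
  rw [Nat.add_sub_cancel]
  have hN := Nu_two_le (k + 1) (k + 1)
  rw [pow_succ] at hN
  rcases (Nat.dvd_prime Nat.prime_three).1 (Nat.gcd_dvd_right (k + 1) 3) with hg | hg
  · rw [show (2 : ℕ) + 1 = 3 from rfl, hg, Nat.divisors_one, Finset.erase_singleton, Finset.sum_empty]
    omega
  · rw [show (2 : ℕ) + 1 = 3 from rfl, hg, Nat.Prime.divisors Nat.prime_three, Finset.erase_insert (by simp),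
      Finset.sum_singleton]
    obtain ⟨m, hm⟩ : 3 ∣ k + 1 := hg ▸ Nat.gcd_dvd_left _ _
    rw [show (k + 1) / 3 = m by omega]
    rcases Nat.lt_or_ge m 3 with h3 | h3
    · interval_cases m
      · omega
      · obtain rfl : k = 2 := by omega
        rw [show Nu 2 1 1 = 3 from by decide]
        omega
      · obtain rfl : k = 5 := by omega
        rw [show Nu 2 2 2 = 9 from by decide]
        omega
    · have hM := Nu_two_le m m
      have h32 : 32 * 2 ^ m ≤ 2 ^ k := by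
        rw [show (32 : ℕ) = 2 ^ 5 from rfl, ← pow_add]
        exact Nat.pow_le_pow_right (by norm_num) (by omega)
      omega

theorem total_three {q : ℕ} (hq : 3 ≤ q) (n : ℕ) (hn : 2 ≤ n) :
    100 * (Nu q n n + ∑ d ∈ (Nat.gcd n (q + 1)).divisors.erase 1, (d ^ 2 - 1) * Nu q (n / d) (n / d)) ≤
      826 * q ^ n := by
  have hN := Nu_le_three hq n n
  set E := (Nat.gcd n (q + 1)).divisors.erase 1
  have hterm : ∀ d ∈ E, (d ^ 2 - 1) * Nu q (n / d) (n / d) ≤ (d ^ 2 - 1) * (3 * q ^ (n / d)) := fun d _ =>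
    Nat.mul_le_mul_left _ (Nu_le_three hq _ _)
  have hS := Finset.sum_le_sum hterm
  suffices h : ∑ d ∈ E, (d ^ 2 - 1) * (3 * q ^ (n / d)) ≤ 5 * q ^ n by omega
  have hsub : E ⊆ n.divisors.erase 1 :=
    Finset.erase_subset_erase _ (Nat.divisors_subset_of_dvd (by omega) (Nat.gcd_dvd_left _ _))
  have h9 : 9 ≤ q ^ 2 := Nat.pow_le_pow_left hq 2
  rcases Nat.lt_or_ge n 6 with h6 | h6
  · refine (Finset.sum_le_sum_of_subset hsub).trans ?_
    interval_cases n
    · rw [show Nat.divisors 2 = {1, 2} from by decide]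
      simp only [Finset.erase_insert (show (1 : ℕ) ∉ ({2} : Finset ℕ) by simp), Finset.sum_singleton]
      norm_num
      nlinarith
    · rw [show Nat.divisors 3 = {1, 3} from by decide]
      simp only [Finset.erase_insert (show (1 : ℕ) ∉ ({3} : Finset ℕ) by simp), Finset.sum_singleton]
      norm_num
      nlinarith [Nat.mul_le_mul_right q h9]
    · rw [show Nat.divisors 4 = {1, 2, 4} from by decide]
      simp only [Finset.erase_insert (show (1 : ℕ) ∉ ({2, 4} : Finset ℕ) by simp),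
        Finset.sum_pair (show (2 : ℕ) ≠ 4 by decide)]
      norm_num
      nlinarith [Nat.mul_le_mul_right (q ^ 2) h9]
    · rw [show Nat.divisors 5 = {1, 5} from by decide]
      simp only [Finset.erase_insert (show (1 : ℕ) ∉ ({5} : Finset ℕ) by simp), Finset.sum_singleton]
      norm_num
      nlinarith [Nat.mul_le_mul_right (q ^ 3) h9, Nat.mul_le_mul_right q h9]
  · have hmem : ∀ d ∈ E, 2 ≤ d ∧ d ≤ q + 1 := fun d hd => by
      have h1 := Finset.mem_erase.1 hd
      have h3 := Nat.mem_divisors.1 h1.2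
      have : 0 < d := Nat.pos_of_dvd_of_pos h3.1 (Nat.pos_of_ne_zero h3.2)
      exact ⟨by omega, Nat.le_of_dvd (by omega) (h3.1.trans (Nat.gcd_dvd_right _ _))⟩
    have hcard : E.card ≤ q := by
      have := Finset.card_le_card (fun d hd => Finset.mem_Icc.2 (hmem d hd) : E ⊆ Finset.Icc 2 (q + 1))
      rw [Nat.card_Icc] at this
      omega
    have hle : ∀ d ∈ E, (d ^ 2 - 1) * (3 * q ^ (n / d)) ≤ q * (q + 2) * (3 * q ^ (n / 2)) := fun d hd => by
      obtain ⟨h1, h2⟩ := hmem d hd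
      refine Nat.mul_le_mul ?_ (Nat.mul_le_mul_left _ (Nat.pow_le_pow_right (by omega) (Nat.div_le_div_left h1 (by norm_num))))
      have : d ^ 2 ≤ (q + 1) ^ 2 := Nat.pow_le_pow_left h2 2
      have : (q + 1) ^ 2 = q * (q + 2) + 1 := by ring
      omega
    refine (Finset.sum_le_card_nsmul E _ _ hle).trans ((Nat.mul_le_mul_right _ hcard).trans ?_)
    calc q * (q * (q + 2) * (3 * q ^ (n / 2))) ≤ 5 * (q ^ 3 * q ^ (n / 2)) := by
          nlinarith [Nat.zero_le (q * q * q ^ (n / 2)), Nat.mul_le_mul_right (q * q * q ^ (n / 2)) hq]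
      _ ≤ 5 * q ^ n := by
          rw [← pow_add]
          exact Nat.mul_le_mul_left _ (Nat.pow_le_pow_right (by omega) (by omega))

universe v in
/-- The bound for the weighted count. -/
theorem weightU_le {F : Type v} [Field F] [Fintype F] {σ : F →+* F} {q : ℕ} (D : UD σ q) (n : ℕ) (hn : 2 ≤ n)
    (s : Fˣ) : 100 * weightU σ q n s ≤ 826 * q ^ (n - 1) := by
  have h := mul_weightU_le_divisors D n (by omega) s
  refine Nat.le_of_mul_le_mul_left ?_ (Nat.succ_pos q)
  calc (q + 1) * (100 * weightU σ q n s) = 100 * ((q + 1) * weightU σ q n s) := by ring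
    _ ≤ 100 * (Nu q n n + ∑ d ∈ (Nat.gcd n (q + 1)).divisors.erase 1, (d ^ 2 - 1) * Nu q (n / d) (n / d)) :=
        Nat.mul_le_mul_left _ h
    _ ≤ 826 * ((q + 1) * q ^ (n - 1)) := by
      rcases Nat.lt_or_ge q 3 with h3 | h3
      · obtain rfl : q = 2 := by have := D.two_le; omega
        exact total_two n (by omega)
      · refine (total_three h3 n hn).trans ?_
        obtain ⟨k, rfl⟩ : ∃ k, n = k + 1 := ⟨n - 1, by omega⟩
        rw [Nat.add_sub_cancel, pow_succ, mul_comm (q ^ k) q]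
        exact Nat.mul_le_mul_left _ (Nat.mul_le_mul_right _ (Nat.le_succ q))
    _ = (q + 1) * (826 * q ^ (n - 1)) := by ring

end Cfsg.Lib.Linear.ClassU
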