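import Cfsg.Agent.Lib.Linear.ClassU.Poly

/-!
# Weighted counts of tuples of self-reciprocal polynomials

The sum of `idxU` over the tuples with given constant is at most the average of `idxU ^ 2`.
-/

set_option autoImplicit false

universe u

namespace Cfsg.Lib.Linear.ClassU

open Polynomial Cfsg.Lib.Linear.ClassNumberGL Cfsg.Lib.Linear.ClassWeight

variable {F : Type u} [Field F] [Fintype F] {σ : F →+* F} {q : ℕ}

/-- `σ` is the involution `x ↦ x ^ q` of the field with `q ^ 2` elements. -/
structure UD (σ : F →+* F) (q : ℕ) : Prop where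
  invol : ∀ x, σ (σ x) = x
  pow : ∀ x, σ x = x ^ q
  card : Fintype.card F = q ^ 2

theorem UD.two_le (D : UD σ q) : 2 ≤ q := by
  have := Fintype.one_lt_card (α := F)
  rw [D.card] at this
  by_contra h
  have : q ^ 2 ≤ 1 ^ 2 := Nat.pow_le_pow_left (by omega) 2
  omega

theorem UD.ne_id (D : UD σ q) : σ ≠ RingHom.id F := by
  intro h
  have hq := D.two_le
  have hle := Polynomial.card_le_degree_of_subset_roots (p := (X ^ q - X : F[X]))
    (Z := Finset.univ) (fun x _ => (mem_roots (FiniteField.X_pow_card_sub_X_ne_zero F (by omega))).mpr (by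
      simp [← D.pow, h]))
  rw [Finset.card_univ, D.card, FiniteField.X_pow_card_sub_X_natDegree_eq F (by omega), pow_two] at hle
  nlinarith

/-- The bound on the number of self-reciprocal tuples. -/
def Nu (q : ℕ) : ℕ → ℕ → ℕ
  | 0, n => if n = 0 then 1 else 0
  | J + 1, n => ∑ m ∈ Finset.range (n + 1), if (J + 1) * m ≤ n then au q m * Nu q J (n - (J + 1) * m) else 0

/-- Tuples of self-reciprocal polynomials. -/
abbrev UTup (σ : F →+* F) (J n : ℕ) : Type u := {g : Tup F J n // ∀ j, IsSR σ (g.1 j)}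

theorem card_utup (D : UD σ q) : ∀ J n, Nat.card (UTup σ J n) ≤ Nu q J n := by
  intro J
  induction J with
  | zero =>
    intro n
    have : Subsingleton (UTup σ 0 n) := ⟨fun g h => Subtype.ext (Subtype.ext (funext fun j => Fin.elim0 j))⟩
    by_cases hn : n = 0
    · simp only [Nu, hn, if_pos]
      exact Finite.card_le_one_iff_subsingleton.2 (hn ▸ this)
    · have : IsEmpty (UTup σ 0 n) := ⟨fun g => hn (by simpa using g.1.2.2.symm)⟩
      rw [Nat.card_of_isEmpty]
      exact Nat.zero_le _
  | succ J ih =>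
    intro n
    let I := {m : Fin (n + 1) // (J + 1) * m.val ≤ n}
    have hdeg : ∀ g : UTup σ (J + 1) n, (J + 1) * (g.1.1 (Fin.last J)).natDegree +
        ∑ j : Fin J, (j.val + 1) * (g.1.1 j.castSucc).natDegree = n := fun g => by
      have := g.1.2.2
      rw [Fin.sum_univ_castSucc] at this
      simpa [add_comm] using this
    have hle : ∀ g : UTup σ (J + 1) n, (g.1.1 (Fin.last J)).natDegree < n + 1 := fun g => by
      have := hdeg g
      have : (g.1.1 (Fin.last J)).natDegree ≤ (J + 1) * (g.1.1 (Fin.last J)).natDegree :=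
        Nat.le_mul_of_pos_left _ J.succ_pos
      omega
    let φ : UTup σ (J + 1) n → Σ m : I, SPol σ m.1.val × UTup σ J (n - (J + 1) * m.1.val) := fun g =>
      ⟨⟨⟨_, hle g⟩, by have := hdeg g; simp only; omega⟩,
        ⟨g.1.1 (Fin.last J), g.2 _, rfl⟩,
        ⟨⟨fun j => g.1.1 j.castSucc, fun j => g.1.2.1 _, by have := hdeg g; simp only; omega⟩, fun j => g.2 _⟩⟩
    have hφ : Function.Injective φ := by
      intro g g' h
      refine Subtype.ext (Subtype.ext (funext fun j => ?_))
      have h1 := congrArg (fun x : Σ m : I, SPol σ m.1.val × UTup σ J (n - (J + 1) * m.1.val) =>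
        (x.2.1.1, x.2.2.1.1)) h
      refine Fin.lastCases ?_ (fun i => ?_) j
      · exact congrArg Prod.fst h1
      · exact congrFun (congrArg Prod.snd h1) i
    haveI : ∀ m : I, Finite (SPol σ m.1.val) := fun m => (finite_card_spol D.invol D.pow D.card _).1
    refine (Nat.card_le_card_of_injective φ hφ).trans ?_
    classical
    rw [Nat.card_sigma, Nu, ← Fin.sum_univ_eq_sum_range]
    refine le_trans (Finset.sum_le_sum (g := fun m : I =>
      au q m.1.val * Nu q J (n - (J + 1) * m.1.val)) fun m _ => ?_) (le_of_eq ?_)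
    · rw [Nat.card_prod]
      exact Nat.mul_le_mul (finite_card_spol D.invol D.pow D.card _).2 (ih _)
    · rw [← Finset.sum_filter]
      exact (Finset.sum_subtype _ (fun x => by simp)
        (fun x : Fin (n + 1) => au q x.val * Nu q J (n - (J + 1) * x.val))).symm

/-- The bound for the number of classes of `SU_n(q)` with tuple `t`. -/
noncomputable def idxU (q : ℕ) {n : ℕ} (t : Tup F n n) : ℕ :=
  Nat.gcd (q + 1) ((supp t).gcd fun j => j.val + 1)

/-- The units of norm one. -/
def mu (F : Type u) [Field F] (q : ℕ) : Subgroup Fˣ := (powMonoidHom (q + 1) : Fˣ →* Fˣ).ker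

theorem card_mu (D : UD σ q) : Nat.card (mu F q) = q + 1 := by
  classical
  rw [mu, IsCyclic.card_powMonoidHom_ker, Nat.card_eq_fintype_card, Fintype.card_units, D.card]
  refine Nat.gcd_eq_right ⟨q - 1, ?_⟩
  have := D.two_le
  rw [← Nat.sq_sub_sq q 1]

theorem mem_mu (D : UD σ q) (v : Fˣ) : v ∈ mu F q ↔ (v : F) * σ v = 1 := by
  rw [mu, MonoidHom.mem_ker, powMonoidHom_apply, D.pow, Units.ext_iff]
  simp [pow_succ']

open scoped Classical in
/-- The sum of `idxU` over the self-reciprocal tuples with constant `s`. -/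
noncomputable def weightU (σ : F →+* F) (q n : ℕ) (s : Fˣ) : ℕ :=
  ∑ t ∈ (Finset.univ : Finset (Tup F n n)).filter (fun t => (∀ j, IsSR σ (t.1 j)) ∧ cst t = s), idxU q t

open scoped Classical in
/-- The self-reciprocal tuples. -/
noncomputable def srSet (σ : F →+* F) (n : ℕ) : Finset (Tup F n n) :=
  (Finset.univ : Finset (Tup F n n)).filter fun t => ∀ j, IsSR σ (t.1 j)

theorem idxU_dvd {n : ℕ} (q : ℕ) (t : Tup F n n) : idxU q t ∣ n := by
  have h : ∀ j, idxU q t ∣ (j.val + 1) * (t.1 j).natDegree := fun j => by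
    by_cases hj : j ∈ supp t
    · exact Dvd.dvd.mul_right ((Nat.gcd_dvd_right _ _).trans (Finset.gcd_dvd hj)) _
    · rw [show (t.1 j).natDegree = 0 by simpa [supp] using hj, mul_zero]
      exact dvd_zero _
  conv_rhs => rw [← t.2.2]
  exact Finset.dvd_sum fun j _ => h j

theorem mul_weightU_le (D : UD σ q) (n : ℕ) (s : Fˣ) :
    (q + 1) * weightU σ q n s ≤ ∑ t ∈ srSet σ n, idxU q t ^ 2 := by
  classical
  rw [weightU, ← Finset.sum_fiberwise _ supp, ← Finset.sum_fiberwise (srSet σ n) supp, Finset.mul_sum]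
  refine Finset.sum_le_sum fun S _ => ?_
  set i := Nat.gcd (q + 1) (S.gcd fun j => j.val + 1) with hi
  set X := (srSet σ n).filter fun t => supp t = S with hX
  set Y := ((Finset.univ : Finset (Tup F n n)).filter fun t => (∀ j, IsSR σ (t.1 j)) ∧ cst t = s).filter
    fun t => supp t = S with hY
  rw [Finset.sum_congr rfl (g := fun _ => i) (fun t ht => by rw [idxU, (Finset.mem_filter.1 ht).2]),
    Finset.sum_congr rfl (s₁ := X) (g := fun _ => i ^ 2) (fun t ht => by rw [idxU, (Finset.mem_filter.1 ht).2]),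
    Finset.sum_const, Finset.sum_const, smul_eq_mul, smul_eq_mul]
  let h : (Fin n → mu F q) →* mu F q :=
    { toFun := fun c => ∏ j ∈ S, c j ^ (j.val + 1)
      map_one' := by simp
      map_mul' := fun c d => by simp [mul_pow, Finset.prod_mul_distrib] }
  haveI : IsCyclic (mu F q) := inferInstance
  have hidx : q + 1 ≤ i * Nat.card h.range := by
    have hcard : h.range.index ∣ i := by
      refine Nat.dvd_gcd ?_ (Finset.dvd_gcd fun j hj => ?_)
      · rw [← card_mu D]
        exact Subgroup.index_dvd_card _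
      · have : IsCyclic (mu F q ⧸ h.range) := isCyclic_of_surjective _ (QuotientGroup.mk'_surjective h.range)
        rw [Subgroup.index_eq_card, ← IsCyclic.exponent_eq_card]
        refine Monoid.exponent_dvd_of_forall_pow_eq_one fun x => ?_
        obtain ⟨y, rfl⟩ := QuotientGroup.mk_surjective x
        rw [← QuotientGroup.mk_pow, QuotientGroup.eq_one_iff]
        refine ⟨Function.update 1 j y, ?_⟩
        show ∏ k ∈ S, _ = _
        rw [Finset.prod_eq_single_of_mem j hj (fun k _ hk => by simp [Function.update_of_ne hk])]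
        simp
    have hipos : 0 < i := Nat.gcd_pos_of_pos_left _ (Nat.succ_pos q)
    have := h.range.card_mul_index
    rw [card_mu D] at this
    rw [← this, mul_comm]
    exact Nat.mul_le_mul_right _ (Nat.le_of_dvd hipos hcard)
  choose c hc using fun z : h.range => z.2
  have hnorm : ∀ v : mu F q, ((v : Fˣ) : F) * σ ((v : Fˣ) : F) = 1 := fun v => (mem_mu D _).1 v.2
  choose om hom0 hom using fun v : mu F q => exists_omega D.invol D.ne_id (hnorm v)
  let sc : h.range × {t // t ∈ Y} → Fin n → F[X] := fun z j =>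
    if j ∈ S then scl (((c z.1 j : mu F q) : Fˣ) : F) (om (c z.1 j)) (z.2.1.1 j) else z.2.1.1 j
  have hsupp : ∀ z : h.range × {t // t ∈ Y}, supp z.2.1 = S := fun z => (Finset.mem_filter.1 z.2.2).2
  have hne : ∀ (z : h.range × {t // t ∈ Y}) j, j ∈ S → (z.2.1.1 j).natDegree ≠ 0 := fun z j hj => by
    rw [← hsupp z, supp, Finset.mem_filter] at hj
    exact hj.2
  have hsr : ∀ (z : h.range × {t // t ∈ Y}) j, IsSR σ (z.2.1.1 j) := fun z =>
    (Finset.mem_filter.1 (Finset.mem_filter.1 z.2.2).1).2.1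
  have hdeg : ∀ z j, (sc z j).natDegree = (z.2.1.1 j).natDegree := fun z j => by
    simp only [sc]; split_ifs with hj
    exacts [natDegree_scl (hsr z j).1 (hne z j hj), rfl]
  have hscsr : ∀ z j, IsSR σ (sc z j) := fun z j => by
    simp only [sc]; split_ifs with hj
    exacts [scl_isSR D.invol (hnorm _) (hom _) (hsr z j) (hne z j hj), hsr z j]
  have hcoeff : ∀ z j, (sc z j).coeff 0 =
      (if j ∈ S then (((c z.1 j : mu F q) : Fˣ) : F) else 1) * (z.2.1.1 j).coeff 0 := fun z j => by
    simp only [sc]; split_ifs with hj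
    exacts [coeff_zero_scl, (one_mul _).symm]
  let sc' : h.range × {t // t ∈ Y} → Tup F n n := fun z => ⟨sc z, fun j => ⟨(hscsr z j).1, (hscsr z j).2.1⟩,
    by simp only [hdeg]; exact z.2.1.2.2⟩
  have hsupp' : ∀ z, supp (sc' z) = S := fun z => by
    rw [← hsupp z]
    exact Finset.filter_congr fun j _ => by rw [show ((sc' z).1 j).natDegree = _ from hdeg z j]
  have hcst : ∀ z, cst (sc' z) = (z.1.1 : Fˣ) * s := fun z => by
    have hs : cst z.2.1 = s := (Finset.mem_filter.1 (Finset.mem_filter.1 z.2.2).1).2.2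
    rw [← hc z.1, ← hs]
    show cst (sc' z) = ((∏ j ∈ S, c z.1 j ^ (j.val + 1) : mu F q) : Fˣ) * cst z.2.1
    rw [cst, cst, ← Finset.prod_subset (Finset.subset_univ S) (fun j _ hj => by
        rw [coeff_zero_of_notMem (by rw [hsupp']; exact hj), one_pow]),
      ← Finset.prod_subset (Finset.subset_univ S) (fun j _ hj => by
        rw [coeff_zero_of_notMem (by rw [hsupp]; exact hj), one_pow]),
      SubmonoidClass.coe_finsetProd, ← Finset.prod_mul_distrib]
    refine Finset.prod_congr rfl fun j hj => ?_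
    rw [SubgroupClass.coe_pow, ← mul_pow]
    refine congrArg (· ^ _) (Units.ext ?_)
    show (sc z j).coeff 0 = _
    rw [hcoeff, if_pos hj]
    rfl
  have hinj : Function.Injective sc' := by
    intro z w hzw
    have h1 : z.1 = w.1 := Subtype.ext (Subtype.ext
      (mul_right_cancel ((hcst z).symm.trans ((congrArg cst hzw).trans (hcst w)))))
    refine Prod.ext h1 (Subtype.ext (Subtype.ext (funext fun j => ?_)))
    have h2 : sc z j = sc w j := congrFun (congrArg Subtype.val hzw) j
    have hd : (z.2.1.1 j).natDegree = (w.2.1.1 j).natDegree := by rw [← hdeg z j, h2, hdeg w j]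
    simp only [sc, h1] at h2
    split_ifs at h2
    · exact scl_injective (Units.ne_zero _) (hom0 _) hd h2
    · exact h2
  have hle : Nat.card h.range * Y.card ≤ X.card := by
    have := Nat.card_le_card_of_injective (fun z => (⟨sc' z, by
        simp only [hX, srSet, Finset.mem_filter, Finset.mem_univ, true_and]
        exact ⟨hscsr z, hsupp' z⟩⟩ : {t // t ∈ X}))
      (fun a b hab => hinj (congrArg Subtype.val hab))
    rwa [Nat.card_prod, Nat.card_eq_finsetCard, Nat.card_eq_finsetCard] at this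
  calc (q + 1) * (Y.card * i) ≤ i * Nat.card h.range * (Y.card * i) := Nat.mul_le_mul_right _ hidx
    _ = Nat.card h.range * Y.card * i ^ 2 := by ring
    _ ≤ X.card * i ^ 2 := Nat.mul_le_mul_right _ hle

theorem card_srSet_le (D : UD σ q) (n : ℕ) : (srSet σ n).card ≤ Nu q n n := by
  classical
  refine le_trans (le_of_eq ?_) (card_utup D n n)
  rw [← Nat.card_eq_finsetCard]
  exact Nat.card_congr (Equiv.subtypeEquivRight fun t => by simp [srSet])

open scoped Classical in
theorem card_dvd_le (D : UD σ q) (n d : ℕ) (hd : 0 < d) (hdn : d ∣ n) :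
    ((srSet σ n).filter fun t => ∀ j ∈ supp t, d ∣ j.val + 1).card ≤ Nu q (n / d) (n / d) := by
  obtain ⟨m, rfl⟩ := hdn
  rw [Nat.mul_div_cancel_left _ hd]
  let e : Fin m → Fin (d * m) := fun j => ⟨d * (j.val + 1) - 1, by
    have : d * (j.val + 1) ≤ d * m := Nat.mul_le_mul_left d j.2
    have : d ≤ d * (j.val + 1) := Nat.le_mul_of_pos_right d j.val.succ_pos
    omega⟩
  have he : ∀ j, (e j).val + 1 = d * (j.val + 1) := fun j => by
    have : d ≤ d * (j.val + 1) := Nat.le_mul_of_pos_right d j.val.succ_pos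
    show d * (j.val + 1) - 1 + 1 = _
    omega
  have hinj : Function.Injective e := fun a b h => by
    have := congrArg (fun x : Fin (d * m) => x.val + 1) h
    simp only [he] at this
    exact Fin.ext (Nat.succ_injective (Nat.eq_of_mul_eq_mul_left hd this))
  have hrange : ∀ (t : Tup F (d * m) (d * m)), (∀ j ∈ supp t, d ∣ j.val + 1) → ∀ j ∉ Set.range e,
      (t.1 j).natDegree = 0 := fun t ht j hj => by
    by_contra hne
    obtain ⟨k, hk⟩ := ht j (by simp [supp, hne])
    have hk1 : 1 ≤ k := Nat.pos_of_ne_zero (by rintro rfl; simp at hk)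
    have hk2 : k ≤ m := Nat.le_of_mul_le_mul_left (by rw [← hk]; exact j.2) hd
    refine hj ⟨⟨k - 1, by omega⟩, Fin.ext ?_⟩
    show d * (k - 1 + 1) - 1 = j.val
    rw [Nat.sub_add_cancel hk1]
    omega
  let φ : {t // t ∈ (srSet σ (d * m)).filter fun t => ∀ j ∈ supp t, d ∣ j.val + 1} → UTup σ m m := fun t =>
    ⟨⟨fun j => t.1.1 (e j), fun j => t.1.2.1 _, Nat.eq_of_mul_eq_mul_left hd (by
    rw [Finset.mul_sum]
    conv_rhs => rw [← t.1.2.2]
    refine Fintype.sum_of_injective e hinj _ _ (fun j hj => ?_) fun j => ?_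
    · rw [hrange t.1 (Finset.mem_filter.1 t.2).2 j hj, mul_zero]
    · rw [he, mul_assoc])⟩, fun j => (Finset.mem_filter.1 (Finset.mem_filter.1 t.2).1).2 _⟩
  have hφ : Function.Injective φ := by
    intro s t hst
    refine Subtype.ext (Subtype.ext (funext fun j => ?_))
    by_cases hj : j ∈ Set.range e
    · obtain ⟨k, rfl⟩ := hj
      exact congrFun (congrArg (fun x : UTup σ m m => x.1.1) hst) k
    · rw [(s.1.2.1 j).1.natDegree_eq_zero.1 (hrange s.1 (Finset.mem_filter.1 s.2).2 j hj),
        (t.1.2.1 j).1.natDegree_eq_zero.1 (hrange t.1 (Finset.mem_filter.1 t.2).2 j hj)]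
  have := Nat.card_le_card_of_injective φ hφ
  rw [Nat.card_eq_finsetCard] at this
  exact this.trans (card_utup D m m)

theorem mul_weightU_le_divisors (D : UD σ q) (n : ℕ) (hn : 1 ≤ n) (s : Fˣ) :
    (q + 1) * weightU σ q n s ≤ Nu q n n +
      ∑ d ∈ (Nat.gcd n (q + 1)).divisors.erase 1, (d ^ 2 - 1) * Nu q (n / d) (n / d) := by
  classical
  set E := (Nat.gcd n (q + 1)).divisors.erase 1
  have hpt : ∀ t : Tup F n n, idxU q t ^ 2 ≤
      1 + ∑ d ∈ E, if (∀ j ∈ supp t, d ∣ j.val + 1) then d ^ 2 - 1 else 0 := fun t => by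
    by_cases h1 : idxU q t = 1
    · rw [h1]; simp
    have hmem : idxU q t ∈ E := Finset.mem_erase.2 ⟨h1, Nat.mem_divisors.2
      ⟨Nat.dvd_gcd (idxU_dvd q t) (Nat.gcd_dvd_left _ _), (Nat.gcd_pos_of_pos_left _ hn).ne'⟩⟩
    have h2 := Finset.single_le_sum (f := fun d => if (∀ j ∈ supp t, d ∣ j.val + 1) then d ^ 2 - 1 else 0)
      (fun _ _ => Nat.zero_le _) hmem
    have hall : ∀ j ∈ supp t, idxU q t ∣ j.val + 1 := fun j hj => (Nat.gcd_dvd_right _ _).trans (Finset.gcd_dvd hj)
    rw [if_pos hall] at h2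
    omega
  refine (mul_weightU_le D n s).trans ((Finset.sum_le_sum fun t _ => hpt t).trans ?_)
  rw [Finset.sum_add_distrib, Finset.sum_comm]
  refine Nat.add_le_add (by simpa using card_srSet_le D n) (Finset.sum_le_sum fun d hd => ?_)
  rw [← Finset.sum_filter, Finset.sum_const, smul_eq_mul, mul_comm]
  have hd' := Nat.mem_divisors.1 (Finset.mem_erase.1 hd).2
  exact Nat.mul_le_mul_left _ (card_dvd_le D n d (Nat.pos_of_dvd_of_pos hd'.1 (Nat.gcd_pos_of_pos_left _ hn))
    (hd'.1.trans (Nat.gcd_dvd_left _ _)))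

end Cfsg.Lib.Linear.ClassU
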