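import Cfsg.Agent.Lib.Linear.ClassU.Poly
import Cfsg.Agent.Lib.Linear.ClassTuples
import Cfsg.Agent.Lib.Linear.AschU.Star
import Cfsg.Agent.Lib.Linear.AbsorbPSU
import Cfsg.Agent.S2588

/-!
# Primary forms of unitary matrices

The pairs (polynomial, exponent) of a unitary matrix are permuted by `tl`, every such family of pairs is
realised by a unitary matrix, and forms add up along block diagonal matrices.
-/

set_option autoImplicit false

universe u

namespace Cfsg.Lib.Linear.ClassU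

open Polynomial Matrix Cfsg.Lib Cfsg.Lib.Linear.ClassTuples
open Cfsg.Lib.Linear.AbsorbPSU (ad ad_mul ad_one ad_aeval det_ad rank_ad ad_ad)

section Forms

variable {F : Type u} [Field F] {n : ℕ}

theorem hasForm_conj {A : Matrix (Fin n) (Fin n) F} {ι : Type u} {f : ι → F[X]}
    (h : CanonicalForm.HasForm A f) {B : Matrix (Fin n) (Fin n) F} (hAB : IsConj A B) :
    CanonicalForm.HasForm B f := by
  obtain ⟨Ψ, hΨ⟩ := h
  obtain ⟨c, hc⟩ := hAB
  let θ : (Fin n → F) ≃ₗ[F] (Fin n → F) := LinearEquiv.ofLinearMap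
    (Matrix.mulVecLin (↑c⁻¹ : Matrix (Fin n) (Fin n) F)) (Matrix.mulVecLin (c : Matrix (Fin n) (Fin n) F))
    (by rw [← Matrix.mulVecLin_mul, Units.inv_mul, Matrix.mulVecLin_one])
    (by rw [← Matrix.mulVecLin_mul, Units.mul_inv, Matrix.mulVecLin_one])
  refine ⟨θ.trans Ψ, fun v i => ?_⟩
  show Ψ ((↑c⁻¹ : Matrix (Fin n) (Fin n) F) *ᵥ (B *ᵥ v)) i =
    AdjoinRoot.root (f i) * Ψ ((↑c⁻¹ : Matrix (Fin n) (Fin n) F) *ᵥ v) i
  have h1 : (↑c⁻¹ : Matrix (Fin n) (Fin n) F) * B = A * (↑c⁻¹ : Matrix (Fin n) (Fin n) F) := by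
    calc (↑c⁻¹ : Matrix (Fin n) (Fin n) F) * B = ↑c⁻¹ * (B * ↑c) * ↑c⁻¹ := by
          rw [mul_assoc, mul_assoc B, Units.mul_inv, mul_one]
      _ = ↑c⁻¹ * (↑c * A) * ↑c⁻¹ := by rw [show (c : Matrix (Fin n) (Fin n) F) * A = B * c from hc]
      _ = _ := by rw [← mul_assoc, Units.inv_mul, one_mul]
  rw [Matrix.mulVec_mulVec, h1, ← Matrix.mulVec_mulVec, hΨ]

theorem coeff_zero_ne_of_form (g : GL (Fin n) F) {ι : Type u} [Fintype ι] {p : ι → F[X]} {e : ι → ℕ}
    (hp : ∀ i, (p i).Monic) (he : ∀ i, 1 ≤ e i) (h : CanonicalForm.HasForm g.1 fun i => p i ^ e i) (i : ι) :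
    (p i).coeff 0 ≠ 0 := by
  classical
  intro h0
  have hd : (g.1).det = 0 := by
    rw [Matrix.det_eq_sign_charpoly_coeff, h.charpoly (fun i => (hp i).pow (e i)), coeff_zero_prod,
      Finset.prod_eq_zero (Finset.mem_univ i), mul_zero]
    rw [coeff_zero_eq_eval_zero, eval_pow, ← coeff_zero_eq_eval_zero, h0, zero_pow (by have := he i; omega)]
  exact ((Matrix.isUnit_iff_isUnit_det _).mp g.isUnit).ne_zero hd

/-- The product over two complementary subtypes. -/
def piSplit {ι : Type u} (P : ι → Prop) [DecidablePred P] (T : ι → Type u) [∀ i, AddCommGroup (T i)]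
    [∀ i, Module F (T i)] : ((∀ i : {i // P i}, T i.1) × ∀ i : {i // ¬ P i}, T i.1) ≃ₗ[F] ∀ i, T i where
  toEquiv := (Equiv.piEquivPiSubtypeProd P T).symm
  map_add' x y := by
    funext i
    simp only [Equiv.toFun_as_coe, Equiv.piEquivPiSubtypeProd_symm_apply, Pi.add_apply, Prod.fst_add, Prod.snd_add]
    split_ifs <;> rfl
  map_smul' c x := by
    funext i
    simp only [Equiv.toFun_as_coe, Equiv.piEquivPiSubtypeProd_symm_apply, Pi.smul_apply, Prod.smul_fst,
      Prod.smul_snd, RingHom.id_apply]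
    split_ifs <;> rfl

theorem hasForm_block {m k : ℕ} (η : Fin m ⊕ Fin k ≃ Fin n) {ι : Type u} (P : ι → Prop) [DecidablePred P]
    {f : ι → F[X]} {A : Matrix (Fin m) (Fin m) F} {B : Matrix (Fin k) (Fin k) F}
    (hA : CanonicalForm.HasForm A fun i : {i // P i} => f i.1)
    (hB : CanonicalForm.HasForm B fun i : {i // ¬ P i} => f i.1) :
    CanonicalForm.HasForm (Matrix.reindex η η (Matrix.fromBlocks A 0 0 B)) f := by
  obtain ⟨ΨA, hΨA⟩ := hA
  obtain ⟨ΨB, hΨB⟩ := hB
  refine ⟨(LinearEquiv.funCongrLeft F F η).trans ((LinearEquiv.sumArrowLequivProdArrow (Fin m) (Fin k) F F).trans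
    ((LinearEquiv.prodCongr ΨA ΨB).trans (piSplit P fun i => AdjoinRoot (f i)))), fun v i => ?_⟩
  have h1 : (Matrix.reindex η η (Matrix.fromBlocks A 0 0 B) *ᵥ v) ∘ η =
      Sum.elim (A *ᵥ fun x => v (η (Sum.inl x))) (B *ᵥ fun x => v (η (Sum.inr x))) := by
    rw [Matrix.reindex_apply, Matrix.submatrix_mulVec_equiv, Function.comp_assoc, Equiv.symm_comp_self,
      Function.comp_id, Equiv.symm_symm, Matrix.fromBlocks_mulVec]
    simp [Matrix.zero_mulVec]
    rfl
  have h2 : ∀ w : Fin n → F, ((LinearEquiv.funCongrLeft F F η).trans ((LinearEquiv.sumArrowLequivProdArrow (Fin m) (Fin k) F F).trans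
    ((LinearEquiv.prodCongr ΨA ΨB).trans (piSplit P fun i => AdjoinRoot (f i))))) w i =
      if h : P i then ΨA (fun x => w (η (Sum.inl x))) ⟨i, h⟩ else ΨB (fun x => w (η (Sum.inr x))) ⟨i, h⟩ :=
    fun w => rfl
  rw [h2, h2]
  split_ifs with h
  · rw [show (fun x => (Matrix.reindex η η (Matrix.fromBlocks A 0 0 B) *ᵥ v) (η (Sum.inl x))) =
      A *ᵥ fun x => v (η (Sum.inl x)) from funext fun x => congrFun h1 (Sum.inl x)]
    exact hΨA _ ⟨i, h⟩
  · rw [show (fun x => (Matrix.reindex η η (Matrix.fromBlocks A 0 0 B) *ᵥ v) (η (Sum.inr x))) =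
      B *ᵥ fun x => v (η (Sum.inr x)) from funext fun x => congrFun h1 (Sum.inr x)]
    exact hΨB _ ⟨i, h⟩

end Forms

section Adjoint

variable {F : Type u} [Field F] [Fintype F] {n : ℕ} (σ : F →+* F)

/-- The conjugate transpose of an invertible matrix. -/
noncomputable def adU (g : GL (Fin n) F) : GL (Fin n) F where
  val := ad σ g.1
  inv := ad σ (g⁻¹).1
  val_inv := by rw [← ad_mul, Units.inv_mul, ad_one]
  inv_val := by rw [← ad_mul, Units.mul_inv, ad_one]

variable {σ}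

omit [Fintype F] in
theorem aeval_reverse (B : GL (Fin n) F) (R : F[X]) :
    aeval B.1 R.reverse = (B ^ R.natDegree).1 * aeval (B⁻¹).1 R := by
  rw [aeval_eq_sum_range' (Nat.lt_succ_of_le (reverse_natDegree_le R)), aeval_eq_sum_range,
    ← Finset.sum_range_reflect, Finset.mul_sum]
  refine Finset.sum_congr rfl fun i hi => ?_
  have hi' : i ≤ R.natDegree := Nat.lt_succ_iff.1 (Finset.mem_range.1 hi)
  rw [show R.natDegree + 1 - 1 - i = R.natDegree - i by omega, coeff_reverse, revAt_le (Nat.sub_le _ _),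
    Nat.sub_sub_self hi', Matrix.mul_smul]
  congr 1
  rw [← Units.val_pow_eq_pow_val, ← Units.val_pow_eq_pow_val, ← Units.val_mul, pow_sub B hi', inv_pow]

theorem rank_aeval_tl (hσσ : ∀ x, σ (σ x) = x) {g B : GL (Fin n) F} (hB : adU σ g = B⁻¹) {R : F[X]}
    (hR0 : R.coeff 0 ≠ 0) : (aeval g.1 R).rank = (aeval B.1 (tl σ R)).rank := by
  rw [tl, map_mul, aeval_reverse, aeval_C, Algebra.algebraMap_eq_smul_one]
  have hc : IsUnit ((σ (R.coeff 0))⁻¹ • (1 : Matrix (Fin n) (Fin n) F)).det := by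
    rw [Matrix.det_smul, Matrix.det_one, mul_one, isUnit_iff_ne_zero]
    exact pow_ne_zero _ (inv_ne_zero ((map_ne_zero σ).2 hR0))
  rw [Matrix.rank_mul_eq_right_of_isUnit_det _ _ hc, Matrix.rank_mul_eq_right_of_isUnit_det _ _
    ((Matrix.isUnit_iff_isUnit_det _).1 (Units.isUnit _)), ← congrArg Units.val hB,
    show (adU σ g).1 = ad σ g.1 from rfl, ← ad_aeval σ]
  exact (rank_ad σ hσσ _).symm

omit [Fintype F] in
theorem rank_step {g : Matrix (Fin n) (Fin n) F} {τ : Type u} [Fintype τ] {p : τ → F[X]} {e : τ → ℕ}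
    (hp : ∀ i, (p i).Monic ∧ Irreducible (p i)) (h : CanonicalForm.HasForm g fun i => p i ^ e i) {Y : F[X]}
    (hY : Y.Monic) (hYi : Irreducible Y) [DecidableEq F] (k : ℕ) :
    (aeval g (Y ^ k)).rank = (aeval g (Y ^ (k + 1))).rank +
      Y.natDegree * (Finset.univ.filter fun i => p i = Y ∧ k < e i).card := by
  rw [Matrix.rank, Matrix.rank, finrank_range_aeval (fun i => (hp i).1.pow _) h,
    finrank_range_aeval (fun i => (hp i).1.pow _) h, Finset.card_filter, Finset.mul_sum, ← Finset.sum_add_distrib]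
  refine Finset.sum_congr rfl fun i _ => ?_
  by_cases hi : p i = Y
  · rw [hi, finrank_range_same Y hY, finrank_range_same Y hY]
    by_cases hk : k < e i
    · rw [if_pos ⟨rfl, hk⟩, mul_one, ← Nat.succ_mul]
      congr 1
      omega
    · rw [if_neg (fun h => hk h.2), mul_zero, add_zero, Nat.sub_eq_zero_of_le (by omega : e i ≤ k),
        Nat.sub_eq_zero_of_le (by omega : e i ≤ k + 1)]
  · have hco : IsCoprime Y (p i) := by
      refine hYi.coprime_iff_not_dvd.2 fun hd => hi ?_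
      exact (eq_of_monic_of_associated hY (hp i).1 (hYi.associated_of_dvd (hp i).2 hd)).symm
    rw [finrank_range_other _ _ ((hp i).1.pow _) hco.pow, finrank_range_other _ _ ((hp i).1.pow _) hco.pow,
      if_neg (fun h => hi h.1), mul_zero, add_zero]

theorem pairs_tl (hσσ : ∀ x, σ (σ x) = x) {g B : GL (Fin n) F} (hB : adU σ g = B⁻¹)
    {ι κ : Type u} [Fintype ι] [Fintype κ] {p : ι → F[X]} {e : ι → ℕ} {p' : κ → F[X]} {e' : κ → ℕ}
    (hp : ∀ i, (p i).Monic ∧ Irreducible (p i)) (he : ∀ i, 1 ≤ e i)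
    (hp' : ∀ i, (p' i).Monic ∧ Irreducible (p' i)) (he' : ∀ i, 1 ≤ e' i)
    (h : CanonicalForm.HasForm g.1 fun i => p i ^ e i) (h' : CanonicalForm.HasForm B.1 fun i => p' i ^ e' i) :
    ((Finset.univ : Finset κ).val.map fun i => (p' i, e' i)) =
      (Finset.univ : Finset ι).val.map fun i => (tl σ (p i), e i) := by
  classical
  have h0 := coeff_zero_ne_of_form g (fun i => (hp i).1) he h
  have h0' := coeff_zero_ne_of_form B (fun i => (hp' i).1) he' h'
  refine Multiset.ext.2 fun ⟨Y, j⟩ => ?_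
  by_cases hY : (Y.Monic ∧ Irreducible Y ∧ Y.coeff 0 ≠ 0) ∧ 1 ≤ j
  · obtain ⟨⟨hYm, hYi, hY0⟩, hj⟩ := hY
    obtain ⟨k, rfl⟩ : ∃ k, j = k + 1 := ⟨j - 1, by omega⟩
    have split : ∀ {τ : Type u} [Fintype τ] (p : τ → F[X]) (e : τ → ℕ),
        (Finset.univ.filter fun i => p i = Y ∧ k < e i).card =
        Multiset.count (Y, k + 1) ((Finset.univ : Finset τ).val.map fun i => (p i, e i)) +
          (Finset.univ.filter fun i => p i = Y ∧ k + 1 < e i).card := by
      intro τ _ p e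
      rw [Multiset.count_map, ← Finset.filter_val, ← Finset.card_def, Finset.card_filter, Finset.card_filter,
        Finset.card_filter, ← Finset.sum_add_distrib]
      refine Finset.sum_congr rfl fun i _ => ?_
      by_cases hi : p i = Y
      · simp only [hi, true_and, Prod.mk.injEq]
        split_ifs <;> omega
      · simp [hi, Prod.mk.injEq, Ne.symm hi]
    have hT0 := tl_coeff_zero_ne (σ := σ) hYm hY0
    have heq : ∀ k, (Finset.univ.filter fun i => p' i = Y ∧ k < e' i).card =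
        (Finset.univ.filter fun i => tl σ (p i) = Y ∧ k < e i).card := fun k => by
      have hflip : (Finset.univ.filter fun i => tl σ (p i) = Y ∧ k < e i) =
          Finset.univ.filter fun i => p i = tl σ Y ∧ k < e i :=
        Finset.filter_congr fun i _ => and_congr_left fun _ =>
          ⟨fun h1 => by rw [← h1, tl_tl hσσ (hp i).1 (h0 i)], fun h1 => by rw [h1, tl_tl hσσ hYm hY0]⟩
      have hrk : ∀ l, (aeval g.1 (tl σ Y ^ l)).rank = (aeval B.1 (Y ^ l)).rank := fun l => by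
        rw [rank_aeval_tl hσσ hB (by rw [coeff_zero_eq_eval_zero, eval_pow, ← coeff_zero_eq_eval_zero]
                                     exact pow_ne_zero _ hT0),
          tl_pow, tl_tl hσσ hYm hY0]
      have e1 := rank_step hp' h' hYm hYi k
      have e2 := rank_step hp h (tl_monic (σ := σ) hY0) (tl_irreducible hσσ hYm hY0 hYi) k
      rw [natDegree_tl hY0, hrk, hrk] at e2
      rw [hflip]
      exact Nat.eq_of_mul_eq_mul_left hYi.natDegree_pos (Nat.add_left_cancel (e1.symm.trans e2))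
    have h1 := split p' e'
    have h2 := split (fun i => tl σ (p i)) e
    rw [heq k, heq (k + 1)] at h1
    omega
  · rw [Multiset.count_eq_zero.2, Multiset.count_eq_zero.2]
    · intro hmem
      obtain ⟨i, -, hi⟩ := Multiset.mem_map.1 hmem
      rw [Prod.mk.injEq] at hi
      refine hY ⟨hi.1 ▸ ⟨tl_monic (h0 i), tl_irreducible hσσ (hp i).1 (h0 i) (hp i).2,
        tl_coeff_zero_ne (hp i).1 (h0 i)⟩, hi.2 ▸ he i⟩
    · intro hmem
      obtain ⟨i, -, hi⟩ := Multiset.mem_map.1 hmem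
      rw [Prod.mk.injEq] at hi
      exact hY ⟨hi.1 ▸ ⟨(hp' i).1, (hp' i).2, h0' i⟩, hi.2 ▸ he' i⟩

end Adjoint

section Unitary

open Cfsg.Lib.Linear.Asch

variable {F : Type u} [Field F] [Fintype F] {q n : ℕ}

/-- The pairs are permuted by `tl`. -/
def Sym (σ : F →+* F) {ι : Type u} [Fintype ι] (p : ι → F[X]) (e : ι → ℕ) : Prop :=
  ((Finset.univ : Finset ι).val.map fun i => (tl σ (p i), e i)) =
    (Finset.univ : Finset ι).val.map fun i => (p i, e i)

variable {σ : F →+* F}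

theorem adU_of_mem (hσ : ∀ x, σ x = x ^ q) (hF : Fintype.card F = q ^ 2) {g : GL (Fin n) F}
    (hg : g ∈ Cfsg.GU n F q) : adU σ g = g⁻¹ := by
  refine Units.ext ?_
  rw [← AschU.adjt_eq_inv hF hg]
  ext i j
  rw [AschU.adjt_apply]
  exact hσ _

theorem mem_iff_ad (hσ : ∀ x, σ x = x ^ q) (hF : Fintype.card F = q ^ 2) {g : GL (Fin n) F} :
    g ∈ Cfsg.GU n F q ↔ ad σ g.1 * g.1 = 1 := by
  rw [AschU.mem_GU_iff hF, show AschU.adjt hF g.1 = ad σ g.1 from Matrix.ext fun i j => by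
    rw [AschU.adjt_apply]; exact (hσ _).symm]

theorem sym_of_mem (hσσ : ∀ x, σ (σ x) = x) (hσ : ∀ x, σ x = x ^ q) (hF : Fintype.card F = q ^ 2)
    {g : GL (Fin n) F} (hg : g ∈ Cfsg.GU n F q) {ι : Type u} [Fintype ι] {p : ι → F[X]} {e : ι → ℕ}
    (hp : ∀ i, (p i).Monic ∧ Irreducible (p i)) (he : ∀ i, 1 ≤ e i)
    (h : CanonicalForm.HasForm g.1 fun i => p i ^ e i) : Sym σ p e :=
  (pairs_tl hσσ (adU_of_mem hσ hF hg) hp he hp he h h).symm

theorem exists_gu_form (hσσ : ∀ x, σ (σ x) = x) (hσ : ∀ x, σ x = x ^ q) (hF : Fintype.card F = q ^ 2)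
    {ι : Type u} [Fintype ι] {p : ι → F[X]} {e : ι → ℕ} (hp : ∀ i, (p i).Monic ∧ Irreducible (p i))
    (he : ∀ i, 1 ≤ e i) (h0 : ∀ i, (p i).coeff 0 ≠ 0) (hn : ∑ i, (p i ^ e i).natDegree = n) (hsym : Sym σ p e) :
    ∃ B : GL (Fin n) F, B ∈ Cfsg.GU n F q ∧ CanonicalForm.HasForm B.1 fun i => p i ^ e i := by
  classical
  obtain ⟨A, hA⟩ := CanonicalForm.exists_matrix (fun i => p i ^ e i) (fun i => (hp i).1.pow _) hn
  have hdet : A.det ≠ 0 := by
    rw [Matrix.det_eq_sign_charpoly_coeff, hA.charpoly (fun i => (hp i).1.pow _), coeff_zero_prod]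
    refine mul_ne_zero (pow_ne_zero _ (neg_ne_zero.2 one_ne_zero)) (Finset.prod_ne_zero_iff.2 fun i _ => ?_)
    rw [coeff_zero_eq_eval_zero, eval_pow, ← coeff_zero_eq_eval_zero]
    exact pow_ne_zero _ (h0 i)
  set g : GL (Fin n) F := GeneralLinearGroup.mkOfDetNeZero A hdet
  set B : GL (Fin n) F := (adU σ g)⁻¹
  obtain ⟨κ, hκ, p', e', hp', hi', he', hform'⟩ := CanonicalForm.exists_form B.1
  have hpairs := (pairs_tl hσσ (inv_inv _).symm hp he (fun i => ⟨hp' i, hi' i⟩) he' hA hform').trans hsym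
  have hmap := congrArg (Multiset.map fun x : F[X] × ℕ => x.1 ^ x.2) hpairs.symm
  rw [Multiset.map_map, Multiset.map_map] at hmap
  have hconj : IsConj A B.1 := CanonicalForm.isConj_of_map_eq hA hform' hmap
  have h2 : B.1 = ((A.map fun x : F => x ^ q)ᵀ)⁻¹ := by
    rw [show B.1 = ((adU σ g).1)⁻¹ from Matrix.coe_units_inv _]
    congr 1
    ext i j
    exact hσ _
  obtain ⟨C, hC⟩ := (Cfsg.Agent.S2588.result hF g).2 (h2 ▸ hconj)
  exact ⟨C, C.2, hasForm_conj hA ((Units.coeHom _).map_isConj hC)⟩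

end Unitary

end Cfsg.Lib.Linear.ClassU
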